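import Groth.Agent.S4085
import Groth.Agent.S4086
import Groth.Agent.Picfga.OverRep
import Groth.Agent.Desc.MorDescent
import Mathlib.AlgebraicGeometry.Sites.Fpqc
import Mathlib.AlgebraicGeometry.Morphisms.LocalFlatDescent

/-!
# Descent of representability along a finite locally free morphism

`q : S' ⟶ S` finite locally free surjective, `F : (Over S)ᵒᵖ ⥤ Type w` satisfying descent along finite locally free
surjective morphisms. If `F` restricted to `Over S'` has a universal element on a scheme `P'` in which every finite set of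
points lies in an affine open, then `F` has a universal element.
-/

set_option autoImplicit false
universe w u

open CategoryTheory CategoryTheory.Limits AlgebraicGeometry Opposite

namespace Groth.Agent.Pic13.H955.FinDesc

open Groth.Agent.Picfga.OverRep (map_comp_apply map_eq_of_eq)

variable {S : Scheme.{u}}

/-- `ξ` is a universal element of `F` on `P`. -/
def IsUniv (F : (Over S)ᵒᵖ ⥤ Type w) (P : Over S) (ξ : F.obj (op P)) : Prop :=
  ∀ (T : Over S) (x : F.obj (op T)), ∃! g : T ⟶ P, F.map g.op ξ = x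

/-- Descent along finite locally free surjective morphisms. -/
def IsFlfSheaf (F : (Over S)ᵒᵖ ⥤ Type w) : Prop :=
  ∀ {T T' : Over S} (f : T' ⟶ T), Mor2.IsFinLocFree f.left → Surjective f.left →
    ∀ x : F.obj (op T'),
    (∀ (W : Over S) (a b : W ⟶ T'), a ≫ f = b ≫ f → F.map a.op x = F.map b.op x) →
    ∃! y : F.obj (op T), F.map f.op y = x

/-- Every finite set of points lies in an affine open. -/
def IsAF (X : Scheme.{u}) : Prop :=
  ∀ s : Set X, s.Finite → ∃ V : X.Opens, IsAffineOpen V ∧ s ⊆ (V : Set X)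

section Groupoid

variable {S' : Scheme.{u}} (q : S' ⟶ S) (F : (Over S)ᵒᵖ ⥤ Type w)
  (P' : Over S') (ξ : F.obj (op ((Over.map q).obj P')))
  (h : IsUniv ((Over.map q).op ⋙ F) P' ξ)

/-- `P'` as a scheme over `S`. -/
abbrev V : Over S := (Over.map q).obj P'

/-- The scheme of arrows. -/
noncomputable abbrev R : Scheme.{u} := pullback (P'.hom ≫ q) q

/-- The source map. -/
noncomputable abbrev s : R q P' ⟶ P'.left := pullback.fst _ _

/-- the scheme of arrows over `S'` -/
noncomputable abbrev R' : Over S' := Over.mk (pullback.snd (P'.hom ≫ q) q)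

/-- the source map over `S` -/
noncomputable abbrev sS : (Over.map q).obj (R' q P') ⟶ V q P' :=
  Over.homMk (pullback.fst _ _) pullback.condition

include h in
lemma exists_t : ∃ t : R' q P' ⟶ P', F.map ((Over.map q).map t).op ξ = F.map (sS q P').op ξ :=
  (h (R' q P') (F.map (sS q P').op ξ)).exists

/-- The target map. -/
noncomputable def t' : R' q P' ⟶ P' := (exists_t q F P' ξ h).choose

lemma t'_spec : F.map ((Over.map q).map (t' q F P' ξ h)).op ξ = F.map (sS q P').op ξ :=
  (exists_t q F P' ξ h).choose_spec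

/-- The target map as a morphism of schemes. -/
noncomputable def t : R q P' ⟶ P'.left := (t' q F P' ξ h).left

lemma t_hom : t q F P' ξ h ≫ P'.hom = pullback.snd (P'.hom ≫ q) q := Over.w (t' q F P' ξ h)

lemma R_ext {T : Scheme.{u}} {α β : T ⟶ R q P'} (h1 : α ≫ s q P' = β ≫ s q P')
    (h2 : α ≫ t q F P' ξ h = β ≫ t q F P' ξ h) : α = β := by
  apply pullback.hom_ext
  · exact h1
  · rw [← t_hom q F P' ξ h, reassoc_of% h2]

lemma rel_of_arrow {T : Over S} (a b : T ⟶ V q P') (r : T.left ⟶ R q P')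
    (h1 : r ≫ t q F P' ξ h = a.left) (h2 : r ≫ s q P' = b.left) :
    F.map a.op ξ = F.map b.op ξ := by
  -- `r` as a morphism over `S`
  have hr : r ≫ (pullback.snd (P'.hom ≫ q) q ≫ q) = T.hom := by
    rw [← pullback.condition, ← Category.assoc]
    change (r ≫ s q P') ≫ P'.hom ≫ q = _
    rw [h2]
    exact Over.w b
  let rS : T ⟶ (Over.map q).obj (R' q P') := Over.homMk r hr
  have ha : a = rS ≫ (Over.map q).map (t' q F P' ξ h) := by
    ext
    exact h1.symm
  have hb : b = rS ≫ sS q P' := by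
    ext
    exact h2.symm
  rw [ha, hb, map_comp_apply, map_comp_apply, t'_spec]

lemma exists_arrow {T : Over S} (a b : T ⟶ V q P') (hab : F.map a.op ξ = F.map b.op ξ) :
    ∃ r : T.left ⟶ R q P', r ≫ t q F P' ξ h = a.left ∧ r ≫ s q P' = b.left := by
  have ha : a.left ≫ P'.hom ≫ q = T.hom := Over.w a
  have hb : b.left ≫ P'.hom ≫ q = T.hom := Over.w b
  let r : T.left ⟶ R q P' := pullback.lift b.left (a.left ≫ P'.hom)
    (by rw [hb, Category.assoc, ha])
  have hr1 : r ≫ s q P' = b.left := pullback.lift_fst _ _ _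
  have hr2 : r ≫ pullback.snd _ _ = a.left ≫ P'.hom := pullback.lift_snd _ _ _
  refine ⟨r, ?_, hr1⟩
  -- `T` over `S'` through `a`
  let T' : Over S' := Over.mk (a.left ≫ P'.hom)
  let e : T ⟶ (Over.map q).obj T' := Over.homMk (𝟙 _) (by
    change 𝟙 _ ≫ (a.left ≫ P'.hom) ≫ q = T.hom
    rw [Category.id_comp, Category.assoc, ha])
  let e' : (Over.map q).obj T' ⟶ T := Over.homMk (𝟙 _) (by
    change 𝟙 _ ≫ T.hom = (a.left ≫ P'.hom) ≫ q
    rw [Category.id_comp, Category.assoc, ha])
  let a' : T' ⟶ P' := Over.homMk a.left rfl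
  let r' : T' ⟶ R' q P' := Over.homMk r hr2
  have h1 : F.map ((Over.map q).map (r' ≫ t' q F P' ξ h)).op ξ =
      F.map ((Over.map q).map a').op ξ := by
    rw [Functor.map_comp, map_comp_apply, t'_spec, ← map_comp_apply]
    have e1 : (Over.map q).map r' ≫ sS q P' = e' ≫ b := by
      ext
      change r ≫ pullback.fst _ _ = 𝟙 _ ≫ b.left
      rw [Category.id_comp]
      exact hr1
    have e2 : (Over.map q).map a' = e' ≫ a := by
      ext
      change a.left = 𝟙 _ ≫ a.left
      rw [Category.id_comp]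
    rw [e1, e2, map_comp_apply, map_comp_apply, hab]
  have h2 := (h T' (F.map ((Over.map q).map a').op ξ)).unique h1 rfl
  exact congrArg CommaMorphism.left h2

lemma exists_arrow' {T : Scheme.{u}} (p : T ⟶ S) (a b : T ⟶ P'.left) (ha : a ≫ P'.hom ≫ q = p)
    (hb : b ≫ P'.hom ≫ q = p)
    (hab : F.map (Quiver.Hom.op (Over.homMk (U := Over.mk p) (V := V q P') a ha)) ξ =
      F.map (Quiver.Hom.op (Over.homMk (U := Over.mk p) (V := V q P') b hb)) ξ) :
    ∃ r : T ⟶ R q P', r ≫ t q F P' ξ h = a ∧ r ≫ s q P' = b :=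
  exists_arrow q F P' ξ h (T := Over.mk p) _ _ hab

lemma rel_of_arrow' {T : Scheme.{u}} (p : T ⟶ S) (r : T ⟶ R q P')
    (ha : (r ≫ t q F P' ξ h) ≫ P'.hom ≫ q = p) (hb : (r ≫ s q P') ≫ P'.hom ≫ q = p) :
    F.map (Quiver.Hom.op (Over.homMk (U := Over.mk p) (V := V q P') (r ≫ t q F P' ξ h) ha)) ξ =
      F.map (Quiver.Hom.op (Over.homMk (U := Over.mk p) (V := V q P') (r ≫ s q P') hb)) ξ :=
  rel_of_arrow q F P' ξ h (T := Over.mk p) _ _ r rfl rfl

lemma s_over : s q P' ≫ P'.hom ≫ q = pullback.snd (P'.hom ≫ q) q ≫ q := pullback.condition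

lemma t_over : t q F P' ξ h ≫ P'.hom ≫ q = pullback.snd (P'.hom ≫ q) q ≫ q := by
  rw [← Category.assoc, t_hom]

/-- The relation "same element of `F`" on `T`-valued points of `P'`. -/
def Rel {T : Scheme.{u}} (a b : T ⟶ P'.left) : Prop :=
  ∃ r : T ⟶ R q P', r ≫ t q F P' ξ h = a ∧ r ≫ s q P' = b

lemma Rel.over {T : Scheme.{u}} {a b : T ⟶ P'.left} (hr : Rel q F P' ξ h a b) :
    a ≫ P'.hom ≫ q = b ≫ P'.hom ≫ q := by
  obtain ⟨r, rfl, rfl⟩ := hr
  rw [Category.assoc, Category.assoc, s_over, t_over]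

lemma rel_iff {T : Scheme.{u}} (p : T ⟶ S) (a b : T ⟶ P'.left) (ha : a ≫ P'.hom ≫ q = p)
    (hb : b ≫ P'.hom ≫ q = p) : Rel q F P' ξ h a b ↔
    F.map (Quiver.Hom.op (Over.homMk (U := Over.mk p) (V := V q P') a ha)) ξ =
      F.map (Quiver.Hom.op (Over.homMk (U := Over.mk p) (V := V q P') b hb)) ξ := by
  constructor
  · rintro ⟨r, rfl, rfl⟩
    exact rel_of_arrow' q F P' ξ h p r _ _
  · exact exists_arrow' q F P' ξ h p a b ha hb

lemma rel_refl {T : Scheme.{u}} (a : T ⟶ P'.left) : Rel q F P' ξ h a a :=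
  (rel_iff q F P' ξ h _ a a rfl rfl).2 rfl

lemma rel_symm {T : Scheme.{u}} {a b : T ⟶ P'.left} (hab : Rel q F P' ξ h a b) :
    Rel q F P' ξ h b a := by
  have h1 := hab.over
  rw [rel_iff q F P' ξ h _ a b h1 rfl] at hab
  exact (rel_iff q F P' ξ h _ b a rfl h1).2 hab.symm

lemma rel_trans {T : Scheme.{u}} {a b c : T ⟶ P'.left} (hab : Rel q F P' ξ h a b)
    (hbc : Rel q F P' ξ h b c) : Rel q F P' ξ h a c := by
  have h1 := hab.over
  have h2 := hbc.over
  rw [rel_iff q F P' ξ h (c ≫ P'.hom ≫ q) a b (h1.trans h2) h2] at hab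
  rw [rel_iff q F P' ξ h (c ≫ P'.hom ≫ q) b c h2 rfl] at hbc
  exact (rel_iff q F P' ξ h _ a c (h1.trans h2) rfl).2 (hab.trans hbc)

lemma rel_comp {T T' : Scheme.{u}} (g : T' ⟶ T) {a b : T ⟶ P'.left} (hab : Rel q F P' ξ h a b) :
    Rel q F P' ξ h (g ≫ a) (g ≫ b) := by
  obtain ⟨r, rfl, rfl⟩ := hab
  exact ⟨g ≫ r, by rw [Category.assoc], by rw [Category.assoc]⟩

lemma rel_arrow {T : Scheme.{u}} (r : T ⟶ R q P') :
    Rel q F P' ξ h (r ≫ t q F P' ξ h) (r ≫ s q P') := ⟨r, rfl, rfl⟩

lemma exists_unit : ∃ e : P'.left ⟶ R q P', e ≫ t q F P' ξ h = 𝟙 _ ∧ e ≫ s q P' = 𝟙 _ :=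
  rel_refl q F P' ξ h (𝟙 _)

lemma exists_inv : ∃ i : R q P' ⟶ R q P', i ≫ t q F P' ξ h = s q P' ∧
    i ≫ s q P' = t q F P' ξ h :=
  rel_symm q F P' ξ h ⟨𝟙 _, Category.id_comp _, Category.id_comp _⟩

lemma exists_comp : ∃ c : pullback (s q P') (t q F P' ξ h) ⟶ R q P',
    c ≫ t q F P' ξ h = pullback.fst _ _ ≫ t q F P' ξ h ∧
    c ≫ s q P' = pullback.snd _ _ ≫ s q P' := by
  refine rel_trans q F P' ξ h (rel_arrow q F P' ξ h (pullback.fst _ _)) ?_
  rw [pullback.condition]
  exact rel_arrow q F P' ξ h (pullback.snd _ _)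

/-- The groupoid with object scheme `P'`. -/
noncomputable def gpd : Grpd.GroupoidScheme S where
  U := P'.left
  R := R q P'
  pU := P'.hom ≫ q
  pR := pullback.snd (P'.hom ≫ q) q ≫ q
  s := s q P'
  t := t q F P' ξ h
  e := (exists_unit q F P' ξ h).choose
  i := (exists_inv q F P' ξ h).choose
  c := (exists_comp q F P' ξ h).choose
  s_over := s_over q P'
  t_over := t_over q F P' ξ h
  comp_s := fun {T} α β hh => by
    rw [Category.assoc, (exists_comp q F P' ξ h).choose_spec.2, pullback.lift_snd_assoc]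
  comp_t := fun {T} α β hh => by
    rw [Category.assoc, (exists_comp q F P' ξ h).choose_spec.1, pullback.lift_fst_assoc]
  assoc := fun {T} α β γ h₁ h₂ => by
    apply R_ext q F P' ξ h
    · simp only [Category.assoc, (exists_comp q F P' ξ h).choose_spec.2, pullback.lift_snd_assoc]
    · simp only [Category.assoc, (exists_comp q F P' ξ h).choose_spec.1, pullback.lift_fst_assoc]
  e_s := (exists_unit q F P' ξ h).choose_spec.2
  e_t := (exists_unit q F P' ξ h).choose_spec.1
  comp_e := fun {T} α => by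
    apply R_ext q F P' ξ h
    · rw [Category.assoc, (exists_comp q F P' ξ h).choose_spec.2, pullback.lift_snd_assoc,
        Category.assoc, Category.assoc, (exists_unit q F P' ξ h).choose_spec.2, Category.comp_id]
    · rw [Category.assoc, (exists_comp q F P' ξ h).choose_spec.1, pullback.lift_fst_assoc]
  e_comp := fun {T} α => by
    apply R_ext q F P' ξ h
    · rw [Category.assoc, (exists_comp q F P' ξ h).choose_spec.2, pullback.lift_snd_assoc]
    · rw [Category.assoc, (exists_comp q F P' ξ h).choose_spec.1, pullback.lift_fst_assoc,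
        Category.assoc, Category.assoc, (exists_unit q F P' ξ h).choose_spec.1, Category.comp_id]
  i_s := (exists_inv q F P' ξ h).choose_spec.2
  i_t := (exists_inv q F P' ξ h).choose_spec.1
  comp_i := fun {T} α => by
    apply R_ext q F P' ξ h
    · rw [Category.assoc, (exists_comp q F P' ξ h).choose_spec.2, pullback.lift_snd_assoc,
        Category.assoc, Category.assoc, Category.assoc, (exists_unit q F P' ξ h).choose_spec.2,
        (exists_inv q F P' ξ h).choose_spec.2, Category.comp_id]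
    · rw [Category.assoc, (exists_comp q F P' ξ h).choose_spec.1, pullback.lift_fst_assoc,
        Category.assoc, Category.assoc, (exists_unit q F P' ξ h).choose_spec.1, Category.comp_id]
  i_comp := fun {T} α => by
    apply R_ext q F P' ξ h
    · rw [Category.assoc, (exists_comp q F P' ξ h).choose_spec.2, pullback.lift_snd_assoc,
        Category.assoc, Category.assoc, (exists_unit q F P' ξ h).choose_spec.2, Category.comp_id]
    · rw [Category.assoc, (exists_comp q F P' ξ h).choose_spec.1, pullback.lift_fst_assoc,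
        Category.assoc, Category.assoc, Category.assoc, (exists_unit q F P' ξ h).choose_spec.1,
        (exists_inv q F P' ξ h).choose_spec.1, Category.comp_id]

lemma mono_j : Mono (gpd q F P' ξ h).j := by
  refine ⟨fun {T} α β hαβ => ?_⟩
  apply R_ext q F P' ξ h
  · have := congrArg (fun k => k ≫ pullback.snd _ _) hαβ
    simp only [Category.assoc, Grpd.GroupoidScheme.j, pullback.lift_snd] at this
    exact this
  · have := congrArg (fun k => k ≫ pullback.fst _ _) hαβ
    simp only [Category.assoc, Grpd.GroupoidScheme.j, pullback.lift_fst] at this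
    exact this

lemma exists_quotient (hq : Mor2.IsFinLocFree q) (hAF : IsAF P'.left) :
    ∃ (P : Over S) (p : V q P' ⟶ P), Mor2.IsFinLocFree p.left ∧ Surjective p.left ∧
      ∀ {T : Scheme.{u}} (a b : T ⟶ P'.left), a ≫ p.left = b ≫ p.left ↔ Rel q F P' ξ h a b := by
  obtain ⟨hq1, hq2, hq3⟩ := hq
  have ha : Mor2.IsFinLocFree (gpd q F P' ξ h).s :=
    ⟨inferInstanceAs (IsFinite (pullback.fst (P'.hom ≫ q) q)),
      inferInstanceAs (Flat (pullback.fst (P'.hom ≫ q) q)),
      inferInstanceAs (LocallyOfFinitePresentation (pullback.fst (P'.hom ≫ q) q))⟩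
  have hb : ∀ x : (gpd q F P' ξ h).U, ∃ V : (gpd q F P' ξ h).U.Opens, IsAffineOpen V ∧
      (gpd q F P' ξ h).t.base '' ((gpd q F P' ξ h).s.base ⁻¹' {x}) ⊆
        (V : Set (gpd q F P' ξ h).U) := by
    intro x
    have hf : IsFinite (gpd q F P' ξ h).s := ha.1
    exact hAF _ (((gpd q F P' ξ h).s.finite_preimage_singleton x).image _)
  obtain ⟨Y, p, w, ⟨hc⟩, -, hs, -, -, -, -⟩ := S4085.result S (gpd q F P' ξ h) ha hb
  have := mono_j q F P' ξ h
  obtain ⟨h1, h2⟩ := S4086.result S (gpd q F P' ξ h) ha hb Y p w hc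
  let pY : Y ⟶ S := hc.desc (Cofork.ofπ (P'.hom ≫ q)
    ((gpd q F P' ξ h).t_over.trans (gpd q F P' ξ h).s_over.symm))
  have hpY : p ≫ pY = P'.hom ≫ q := hc.fac (Cofork.ofπ (P'.hom ≫ q)
    ((gpd q F P' ξ h).t_over.trans (gpd q F P' ξ h).s_over.symm)) WalkingParallelPair.one
  refine ⟨Over.mk pY, Over.homMk p hpY, h2, hs, fun {T} a b => ⟨fun hab => ?_, ?_⟩⟩
  · exact ⟨h1.lift a b hab, h1.lift_fst _ _ _, h1.lift_snd _ _ _⟩
  · rintro ⟨r, rfl, rfl⟩
    change (r ≫ t q F P' ξ h) ≫ p = (r ≫ s q P') ≫ p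
    rw [Category.assoc, Category.assoc]
    exact congrArg (r ≫ ·) w

/-- Base change over `S'` of a `T` over `S`. -/
noncomputable abbrev bc (T : Over S) : Over S' := Over.mk (pullback.snd T.hom q)

/-- The projection of the base change. -/
noncomputable abbrev bcHom (T : Over S) : (Over.map q).obj (bc q T) ⟶ T :=
  Over.homMk (pullback.fst T.hom q) pullback.condition

lemma isFinLocFree_bcHom (hq : Mor2.IsFinLocFree q) (T : Over S) :
    Mor2.IsFinLocFree (bcHom q T).left := by
  obtain ⟨hq1, hq2, hq3⟩ := hq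
  exact ⟨inferInstanceAs (IsFinite (pullback.fst T.hom q)),
      inferInstanceAs (Flat (pullback.fst T.hom q)),
      inferInstanceAs (LocallyOfFinitePresentation (pullback.fst T.hom q))⟩

lemma epi_of_flf {A B : Scheme.{u}} (f : A ⟶ B) (hf : Mor2.IsFinLocFree f) (hs : Surjective f) :
    EffectiveEpi f := by
  obtain ⟨h1, h2, h3⟩ := hf
  infer_instance

include h in
theorem exists_univ (hq : Mor2.IsFinLocFree q) (hqs : Surjective q) (hF : IsFlfSheaf F)
    (hAF : IsAF P'.left) :
    ∃ (P : Over S) (η : F.obj (op P)) (p : V q P' ⟶ P), IsUniv F P η ∧ F.map p.op η = ξ ∧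
      IsPullback p.left P'.hom P.hom q := by
  obtain ⟨P, p, hp1, hp2, hp3⟩ := exists_quotient q F P' ξ h hq hAF
  -- the element on `P`
  obtain ⟨η, hη, -⟩ := hF p hp1 hp2 ξ (by
    intro W a b hab
    have h1 : Rel q F P' ξ h a.left b.left := (hp3 a.left b.left).1 (congrArg CommaMorphism.left hab)
    exact (rel_iff q F P' ξ h W.hom a.left b.left (Over.w a) (Over.w b)).1 h1)
  -- injectivity
  have hmono : ∀ (T : Over S) (g₁ g₂ : T ⟶ P), F.map g₁.op η = F.map g₂.op η → g₁ = g₂ := by
    intro T g₁ g₂ hg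
    -- common cover
    let T₁ := pullback g₁.left p.left
    let T₂ := pullback g₂.left p.left
    let u : pullback (pullback.fst g₁.left p.left) (pullback.fst g₂.left p.left) ⟶ T.left :=
      pullback.fst _ _ ≫ pullback.fst _ _
    let c₁ : pullback (pullback.fst g₁.left p.left) (pullback.fst g₂.left p.left) ⟶ P'.left :=
      pullback.fst _ _ ≫ pullback.snd _ _
    let c₂ : pullback (pullback.fst g₁.left p.left) (pullback.fst g₂.left p.left) ⟶ P'.left :=
      pullback.snd _ _ ≫ pullback.snd _ _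
    have e1 : c₁ ≫ p.left = u ≫ g₁.left := by
      simp only [c₁, u, Category.assoc]
      rw [pullback.condition]
    have e2 : c₂ ≫ p.left = u ≫ g₂.left := by
      simp only [c₂, u, Category.assoc]
      rw [← pullback.condition, ← pullback.condition_assoc]
    have hu : EffectiveEpi u := by
      obtain ⟨h1, h2, h3⟩ := hp1
      simp only [u]
      infer_instance
    have ho : c₁ ≫ P'.hom ≫ q = u ≫ T.hom := by
      have hw : P'.hom ≫ q = p.left ≫ P.hom := (Over.w p).symm
      rw [← Over.w g₁, hw, ← Category.assoc, e1, Category.assoc]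
    have ho' : c₂ ≫ P'.hom ≫ q = u ≫ T.hom := by
      have hw : P'.hom ≫ q = p.left ≫ P.hom := (Over.w p).symm
      rw [← Over.w g₂, hw, ← Category.assoc, e2, Category.assoc]
    have hrel : Rel q F P' ξ h c₁ c₂ := by
      rw [rel_iff q F P' ξ h (u ≫ T.hom) c₁ c₂ ho ho', ← hη, ← map_comp_apply, ← map_comp_apply]
      have k1 : Over.homMk (U := Over.mk (u ≫ T.hom)) (V := V q P') c₁ ho ≫ p =
          Over.homMk (U := Over.mk (u ≫ T.hom)) (V := T) u rfl ≫ g₁ := by
        ext
        exact e1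
      have k2 : Over.homMk (U := Over.mk (u ≫ T.hom)) (V := V q P') c₂ ho' ≫ p =
          Over.homMk (U := Over.mk (u ≫ T.hom)) (V := T) u rfl ≫ g₂ := by
        ext
        exact e2
      rw [k1, k2, map_comp_apply, map_comp_apply, hg]
    have h4 := (hp3 c₁ c₂).2 hrel
    ext
    have := hu
    rw [← cancel_epi u, ← e1, ← e2, h4]
  -- the maps
  refine ⟨P, η, p, ?_, hη, ?_⟩
  · intro T x
    obtain ⟨a, ha, -⟩ := h (bc q T) (F.map (bcHom q T).op x)
    have ha : F.map ((Over.map q).map a).op ξ = F.map (bcHom q T).op x := ha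
    have hfl := isFinLocFree_bcHom q hq T
    have hsu : Surjective (bcHom q T).left := inferInstanceAs (Surjective (pullback.fst T.hom q))
    have he := epi_of_flf _ hfl hsu
    have hcomp : ∀ {W : Scheme.{u}} (g₁ g₂ : W ⟶ ((Over.map q).obj (bc q T)).left),
        g₁ ≫ (bcHom q T).left = g₂ ≫ (bcHom q T).left →
        g₁ ≫ (a.left ≫ p.left) = g₂ ≫ (a.left ≫ p.left) := by
      intro W g₁ g₂ hg
      rw [← Category.assoc, ← Category.assoc]
      apply (hp3 _ _).2
      have ho : ∀ g : W ⟶ ((Over.map q).obj (bc q T)).left,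
          (g ≫ a.left) ≫ P'.hom ≫ q = g ≫ (bcHom q T).left ≫ T.hom := by
        intro g
        have h1 : a.left ≫ P'.hom = pullback.snd T.hom q := Over.w a
        have h2 : (bcHom q T).left ≫ T.hom = pullback.snd T.hom q ≫ q := Over.w (bcHom q T)
        rw [h2, Category.assoc, ← Category.assoc a.left, h1]
      have hg' : g₁ ≫ (bcHom q T).left ≫ T.hom = g₂ ≫ (bcHom q T).left ≫ T.hom := by
        rw [← Category.assoc, hg, Category.assoc]
      rw [rel_iff q F P' ξ h (g₁ ≫ (bcHom q T).left ≫ T.hom) _ _ (ho g₁) ((ho g₂).trans hg'.symm)]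
      have k : ∀ (g : W ⟶ ((Over.map q).obj (bc q T)).left)
          (hg : g ≫ (bcHom q T).left ≫ T.hom = g₁ ≫ (bcHom q T).left ≫ T.hom)
          (ho' : (g ≫ a.left) ≫ P'.hom ≫ q = g₁ ≫ (bcHom q T).left ≫ T.hom),
          F.map (Quiver.Hom.op (Over.homMk (U := Over.mk (g₁ ≫ (bcHom q T).left ≫ T.hom))
            (V := V q P') (g ≫ a.left) ho')) ξ =
          F.map (Quiver.Hom.op (Over.homMk (U := Over.mk (g₁ ≫ (bcHom q T).left ≫ T.hom))
            (V := T) (g ≫ (bcHom q T).left) (by rw [Category.assoc]; exact hg))) x := by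
        intro g hg ho'
        have w1 : g ≫ ((Over.map q).obj (bc q T)).hom = g₁ ≫ (bcHom q T).left ≫ T.hom := by
          rw [← hg, Over.w]
        have w2 : Over.homMk (U := Over.mk (g₁ ≫ (bcHom q T).left ≫ T.hom))
            (V := V q P') (g ≫ a.left) ho' =
            Over.homMk (U := Over.mk (g₁ ≫ (bcHom q T).left ≫ T.hom))
            (V := (Over.map q).obj (bc q T)) g w1 ≫ (Over.map q).map a := by
          ext
          rfl
        have w3 : Over.homMk (U := Over.mk (g₁ ≫ (bcHom q T).left ≫ T.hom))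
            (V := T) (g ≫ (bcHom q T).left) (by rw [Category.assoc]; exact hg) =
            Over.homMk (U := Over.mk (g₁ ≫ (bcHom q T).left ≫ T.hom))
            (V := (Over.map q).obj (bc q T)) g w1 ≫ bcHom q T := by
          ext
          rfl
        rw [w2, w3, map_comp_apply, map_comp_apply, ha]
      rw [k g₁ rfl, k g₂ hg'.symm]
      congr 3
      exact congrArg Quiver.Hom.op (by ext; exact hg)
    let g : T.left ⟶ P.left := EffectiveEpi.desc (bcHom q T).left (a.left ≫ p.left) hcomp
    have hg : (bcHom q T).left ≫ g = a.left ≫ p.left := EffectiveEpi.fac _ _ hcomp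
    have hgo : g ≫ P.hom = T.hom := by
      rw [← cancel_epi (bcHom q T).left, ← Category.assoc, hg, Category.assoc, Over.w p, Over.w]
      exact Over.w ((Over.map q).map a)
    have hgF : F.map (Over.homMk g hgo : T ⟶ P).op η = x := by
      obtain ⟨y, -, hy⟩ := hF (bcHom q T) hfl hsu (F.map (bcHom q T).op x) (by
        intro W b c hbc
        rw [← map_comp_apply, ← map_comp_apply, hbc])
      rw [hy x rfl]
      apply hy
      have k : bcHom q T ≫ (Over.homMk g hgo : T ⟶ P) = (Over.map q).map a ≫ p := by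
        ext
        exact hg
      rw [← map_comp_apply, k, map_comp_apply, hη, ha]
    exact ⟨_, hgF, fun g' hg' => hmono T _ _ (hg'.trans hgF.symm)⟩
  · have hw : p.left ≫ P.hom = P'.hom ≫ q := Over.w p
    -- the inverse of the comparison map
    let Z : Over S' := Over.mk (pullback.snd P.hom q)
    let zS : (Over.map q).obj Z ⟶ P := Over.homMk (pullback.fst P.hom q) pullback.condition
    obtain ⟨b, hb, -⟩ := h Z (F.map zS.op η)
    have hb : F.map ((Over.map q).map b).op ξ = F.map zS.op η := hb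
    have hb1 : (Over.map q).map b ≫ p = zS := by
      apply hmono
      rw [map_comp_apply, hη, hb]
    let c : P' ⟶ Z := Over.homMk (pullback.lift p.left P'.hom hw) (pullback.lift_snd _ _ _)
    have hc : (Over.map q).map c ≫ zS = p := by
      ext
      exact pullback.lift_fst _ _ _
    have hcb : c ≫ b = 𝟙 P' := by
      refine (h P' ξ).unique ?_ ?_
      · change F.map ((Over.map q).map (c ≫ b)).op ξ = ξ
        rw [Functor.map_comp, map_comp_apply, hb, ← map_comp_apply, hc, hη]
      · change F.map ((Over.map q).map (𝟙 P')).op ξ = ξ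
        rw [CategoryTheory.Functor.map_id, op_id, CategoryTheory.Functor.map_id]
        rfl
    have hbc : b ≫ c = 𝟙 Z := by
      ext
      change b.left ≫ pullback.lift p.left P'.hom hw = 𝟙 _
      apply pullback.hom_ext
      · rw [Category.assoc, pullback.lift_fst, Category.id_comp]
        exact congrArg CommaMorphism.left hb1
      · rw [Category.assoc, pullback.lift_snd, Category.id_comp]
        exact Over.w b
    let e : P' ≅ Z := ⟨c, b, hcb, hbc⟩
    refine IsPullback.of_iso_pullback ⟨hw⟩ ((Over.forget S').mapIso e) ?_ ?_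
    · exact pullback.lift_fst _ _ _
    · exact pullback.lift_snd _ _ _

/-- The descended scheme is separated and locally of finite type if `P'` is. -/
theorem props {P : Over S} {p : V q P' ⟶ P} (hq : Mor2.IsFinLocFree q) (hqs : Surjective q)
    (hp : IsPullback p.left P'.hom P.hom q) :
    (IsSeparated P'.hom → IsSeparated P.hom) ∧
      (LocallyOfFiniteType P'.hom → LocallyOfFiniteType P.hom) := by
  obtain ⟨h1, h2, h3⟩ := hq
  have hQ : (@Surjective ⊓ @Flat ⊓ @QuasiCompact : MorphismProperty Scheme.{u}) q :=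
    ⟨⟨inferInstance, inferInstance⟩, inferInstance⟩
  have := Desc.MorDescent.descendsAlong_isSeparated.{u}
  refine ⟨fun h => ?_, fun h => ?_⟩
  · exact MorphismProperty.of_isPullback_of_descendsAlong (P := @IsSeparated)
      (Q := @Surjective ⊓ @Flat ⊓ @QuasiCompact) hp.flip hQ h
  · exact MorphismProperty.of_isPullback_of_descendsAlong (P := @LocallyOfFiniteType)
      (Q := @Surjective ⊓ @Flat ⊓ @QuasiCompact) hp.flip hQ h

end Groupoid

end Groth.Agent.Pic13.H955.FinDesc
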