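import Groth.Agent.Pic13.H602.Rig
import Groth.Agent.Pic13.H955.FinDesc
import Mathlib.AlgebraicGeometry.Morphisms.Finite

/-!
# The predicate of the devissage

`Rep f` for `f : X ⟶ S`: there is a rigidificator `w : W ⟶ X` (`W` finite over `S`, `Γ(X, O) → Γ(W, O)` injective) such
that the rigidified Picard functor `rigF f w` has a universal element on a scheme locally of finite type over `S`.
-/

set_option autoImplicit false
universe u v

open CategoryTheory CategoryTheory.Limits AlgebraicGeometry Opposite

namespace Groth.Agent.Pic13.H955.RepDef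

open Groth.Agent.Pic13.H602.Rig Groth.Agent.Pic13.H955.FinDesc

/-- The rigidified functor `rigF f w` is representable by a scheme locally of finite type. -/
def RepW {W X S : Scheme.{u}} (f : X ⟶ S) (w : W ⟶ X) : Prop :=
  ∃ (P : Over S) (ξ : (rigF f w).obj (op P)), IsUniv (rigF f w) P ξ ∧ LocallyOfFiniteType P.hom

/-- `f` has a rigidificator for which the rigidified functor is representable. -/
def Rep {X S : Scheme.{u}} (f : X ⟶ S) : Prop :=
  ∃ (W : Scheme.{u}) (w : W ⟶ X), IsFinite (w ≫ f) ∧ Function.Injective w.appTop.hom ∧ RepW f w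

/-- Transport of universal elements along natural bijections. -/
lemma IsUniv.of_bij {S : Scheme.{u}} {F G : (Over S)ᵒᵖ ⥤ Type v}
    (φ : ∀ T : Over S, F.obj (op T) → G.obj (op T))
    (hφ : ∀ T, Function.Bijective (φ T))
    (nat : ∀ {T T' : Over S} (g : T' ⟶ T) (c : F.obj (op T)), φ T' (F.map g.op c) = G.map g.op (φ T c))
    {P : Over S} {ξ : F.obj (op P)} (h : IsUniv F P ξ) : IsUniv G P (φ P ξ) := by
  intro T x
  obtain ⟨c, rfl⟩ := (hφ T).2 x
  obtain ⟨g, hg, hg'⟩ := h T c
  refine ⟨g, ?_, ?_⟩
  · change G.map g.op (φ P ξ) = _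
    rw [← nat, hg]
  · intro g' h'
    apply hg'
    apply (hφ T).1
    rw [nat]
    exact h'

end Groth.Agent.Pic13.H955.RepDef
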