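import Groth.Agent.Divis.ColonIdeal
import Mathlib.AlgebraicGeometry.Morphisms.ClosedImmersion
import Mathlib.AlgebraicGeometry.Noetherian

/-!
# Noetherian induction over closed subschemes
-/

set_option autoImplicit false
universe u

open CategoryTheory CategoryTheory.Limits AlgebraicGeometry

namespace Groth.Agent.Pic13.H955.ClosedInd

/-- If `j ≫ i` and `i` are closed immersions with the same kernel then `j` is an isomorphism. -/
lemma isIso_of_ker_eq {Z' Z X : Scheme.{u}} (j : Z' ⟶ Z) (i : Z ⟶ X) [IsClosedImmersion j]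
    [IsClosedImmersion i] (h : (j ≫ i).ker = i.ker) : IsIso j := by
  let l : Z ⟶ Z' := IsClosedImmersion.lift (j ≫ i) i h.le
  have hl : l ≫ j ≫ i = i := IsClosedImmersion.lift_fac _ _ _
  have h1 : l ≫ j = 𝟙 _ := by
    rw [← cancel_mono i, Category.assoc, hl, Category.id_comp]
  have h2 : j ≫ l = 𝟙 _ := by
    rw [← cancel_mono j, Category.assoc, h1, Category.comp_id, Category.id_comp]
  exact ⟨l, h2, h1⟩

lemma ker_le_ker_comp {Z' Z X : Scheme.{u}} (j : Z' ⟶ Z) (i : Z ⟶ X) : i.ker ≤ (j ≫ i).ker :=
  Scheme.Hom.le_ker_comp _ _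

/-- Noetherian induction over closed subschemes. -/
theorem closed_induction {S : Scheme.{u}} (Q : ∀ Z : Scheme.{u}, (Z ⟶ S) → Prop)
    (step : ∀ (X : Scheme.{u}) (p : X ⟶ S), IsNoetherian X →
      (∀ (Z : Scheme.{u}) (i : Z ⟶ X), IsClosedImmersion i → ¬ IsIso i → Q Z (i ≫ p)) → Q X p)
    (X : Scheme.{u}) (p : X ⟶ S) [IsNoetherian X] : Q X p := by
  have hwf : WellFoundedGT X.IdealSheafData := Divis.ColonIdeal.wellFoundedGT
  have key : ∀ (I : X.IdealSheafData) (Z : Scheme.{u}) (i : Z ⟶ X), IsClosedImmersion i →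
      i.ker = I → Q Z (i ≫ p) := by
    intro I
    induction I using hwf.induction with
    | _ I IH =>
      intro Z i hi hI
      have hn : IsNoetherian Z := by
        have : IsLocallyNoetherian Z := LocallyOfFiniteType.isLocallyNoetherian i
        have : CompactSpace Z := QuasiCompact.compactSpace_of_compactSpace i
        exact {}
      refine step Z (i ≫ p) hn fun Z' j hj hne => ?_
      rw [← Category.assoc]
      refine IH (j ≫ i).ker ?_ Z' (j ≫ i) inferInstance rfl
      refine lt_of_le_of_ne ?_ ?_
      · rw [← hI]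
        exact ker_le_ker_comp j i
      · intro he
        apply hne
        apply isIso_of_ker_eq j i
        rw [← he, hI]
  have := key _ X (𝟙 X) inferInstance rfl
  rwa [Category.id_comp] at this

end Groth.Agent.Pic13.H955.ClosedInd
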