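import Groth.Agent.S1841
import Groth.Agent.Ega2.FiniteSet
import Groth.Agent.CalgB.ProjImm2
import Groth.Agent.Pic13.H955.FinDesc

/-!
# Finite sets of points in group schemes over a field

Every finite set of points of a group scheme locally of finite type over a field lies in an affine open.
-/

set_option autoImplicit false
universe u

open CategoryTheory Limits MonoidalCategory CartesianMonoidalCategory MonObj GrpObj
  AlgebraicGeometry

namespace Groth.Agent.Pic13.H955.GroupAF

open Groth.Agent.Grpsch Groth.Agent.Grpsch.AmpComp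
open Groth.Agent.Picfga.FieldSections (bc)

set_option backward.isDefEq.respectTransparency false in
/-- Over an algebraically closed field a quasi-compact open lies in an open with an ample module. -/
theorem exists_open_isAmple (K : Type u) [Field K] [IsAlgClosed K]
    (G : Over (Spec (CommRingCat.of K))) [GrpObj G] [LocallyOfFiniteType G.hom]
    (C : G.left.Opens) (hC : IsCompact (C : Set G.left)) :
    ∃ D : G.left.Opens, C ≤ D ∧ ∃ L : D.toScheme.Modules, CohB1.IsAmple L := by
  obtain ⟨H, hH, i, hi, hcl, hfl, hr⟩ := S3023.result K G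
  set e : G.left := η[G].left (IsLocalRing.closedPoint K) with he
  have hr' : Set.range i.left = connectedComponent e := hr _
  have hln : IsLocallyNoetherian G.left :=
    LocallyOfFiniteType.isLocallyNoetherian (Y := Spec (CommRingCat.of K)) G.hom
  have hfp : LocallyOfFinitePresentation i.left := by
    infer_instance
  have hop : IsOpenImmersion i.left := IsOpenImmersion.of_flat_of_mono i.left
  have hw : i.left ≫ G.hom = H.hom := Over.w i
  have hlft : LocallyOfFiniteType H.hom := by rw [← hw]; infer_instance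
  have hcH : CompactSpace H.left := by
    have h1 : IsCompact (Set.range i.left) := by
      rw [hr']
      exact (S0355.result K G).2
    rw [← Set.image_univ, ← i.left.isOpenEmbedding.isInducing.isCompact_iff] at h1
    exact isCompact_univ_iff.1 h1
  have hqc : QuasiCompact H.hom := by
    infer_instance
  obtain ⟨L, hL⟩ := S1841.result K H
  -- the components
  have hjac : JacobsonSpace G.left := LocallyOfFiniteType.jacobsonSpace (Y := Spec _) G.hom
  have hnhd := Transl.exists_irreducible_open_nhd G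
  have hopn : ∀ Z ∈ irreducibleComponents G.left, IsOpen Z := fun Z hZ =>
    Transl.isOpen_of_mem_components hnhd hZ
  let I := ↥(irreducibleComponents G.left)
  let U : I → G.left.Opens := fun Z => ⟨Z.1, hopn Z.1 Z.2⟩
  obtain ⟨t, ht⟩ := hC.elim_finite_subcover (fun Z : I => (U Z : Set G.left)) (fun Z => (U Z).2)
    (fun x _ => Set.mem_iUnion.2
      ⟨⟨irreducibleComponent x, irreducibleComponent_mem_irreducibleComponents x⟩,
        mem_irreducibleComponent⟩)
  let J : Type u := {Z : I // Z ∈ t}
  have hJ : Finite J := inferInstanceAs (Finite {Z : I // Z ∈ t})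
  let D : G.left.Opens := ⨆ Z : J, U Z.1
  have hmem : ∀ (Z : J) (x : G.left), x ∈ U Z.1 → x ∈ D := fun Z x hx =>
    TopologicalSpace.Opens.mem_iSup.2 ⟨Z, hx⟩
  have hCD : C ≤ D := by
    intro x hx
    obtain ⟨Z, hZ, hxZ⟩ := Set.mem_iUnion₂.1 (ht hx)
    exact hmem ⟨Z, hZ⟩ x hxZ
  refine ⟨D, hCD, ?_⟩
  let U' : J → D.toScheme.Opens := fun Z => D.ι ⁻¹ᵁ (U Z.1)
  have hcov : ⨆ Z, U' Z = ⊤ := by
    ext x
    simp only [TopologicalSpace.Opens.coe_iSup, Set.mem_iUnion, TopologicalSpace.Opens.coe_top,
      Set.mem_univ, iff_true]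
    obtain ⟨Z, hZ⟩ := TopologicalSpace.Opens.mem_iSup.1 x.2
    exact ⟨Z, hZ⟩
  have hdisj : Pairwise (Function.onFun Disjoint U') := by
    intro Z Z' hne
    rw [Function.onFun, ← TopologicalSpace.Opens.coe_disjoint, Set.disjoint_iff_forall_ne]
    rintro x hx _ hx' rfl
    exact hne (Subtype.ext (Subtype.ext (Transl.components_eq_of_mem hnhd Z.1.2 Z'.1.2 hx hx')))
  -- translations
  have hex : ∀ Z : J, ∃ α : G ≅ G, ∀ x ∈ Z.1.1, α.hom.left x ∈ Set.range i.left := by
    intro Z
    obtain ⟨x, hxZ, hxc⟩ := nonempty_inter_closedPoints Z.1.2.1.1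
      (isClosed_of_mem_irreducibleComponents _ Z.1.2).isLocallyClosed
    obtain ⟨α, hα⟩ := Transl.exists_iso_of_closedPoints G x e hxc (isClosed_unit K G)
    refine ⟨α, fun y hy => ?_⟩
    rw [hr']
    have h1 : _root_.IsPreconnected (α.hom.left '' Z.1.1) :=
      (Z.1.2.1.2.image _ α.hom.left.continuous.continuousOn).isPreconnected
    exact h1.subset_connectedComponent ⟨x, hxZ, hα⟩ ⟨y, hy, rfl⟩
  choose α hα using hex
  let ψ : ∀ Z : J, (U' Z).toScheme ⟶ H.left := fun Z =>
    IsOpenImmersion.lift i.left (((U' Z).ι ≫ D.ι) ≫ (α Z).hom.left) (by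
      rintro _ ⟨y, rfl⟩
      rw [Scheme.Hom.comp_apply]
      exact hα Z _ y.2)
  have hψ : ∀ Z, ψ Z ≫ i.left = ((U' Z).ι ≫ D.ι) ≫ (α Z).hom.left := fun Z =>
    IsOpenImmersion.lift_fac _ _ _
  obtain ⟨φ, hφ⟩ := exists_desc U' hcov hdisj ψ
  have hφa : IsAffineHom φ := by
    refine isAffineHom_of_disjoint U' hcov hdisj φ fun Z => ?_
    rw [hφ]
    have h1 : IsClosedImmersion ((U' Z).ι ≫ D.ι) := by
      refine .of_isPreimmersion _ ?_
      have hrange : Set.range ((U' Z).ι ≫ D.ι) = Z.1.1 := by
        ext x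
        constructor
        · rintro ⟨y, rfl⟩
          rw [Scheme.Hom.comp_apply]
          exact y.2
        · intro hx
          refine ⟨⟨⟨x, hmem Z x hx⟩, hx⟩, ?_⟩
          rw [Scheme.Hom.comp_apply]
          rfl
      rw [hrange]
      exact isClosed_of_mem_irreducibleComponents _ Z.1.2
    have h2 : IsIso (α Z).hom.left := inferInstanceAs (IsIso ((Over.forget _).map (α Z).hom))
    have h3 : IsClosedImmersion (ψ Z ≫ i.left) := by rw [hψ]; infer_instance
    have h4 : IsClosedImmersion (ψ Z) := IsClosedImmersion.of_comp_isClosedImmersion _ i.left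
    infer_instance
  exact ⟨_, Groth.Agent.Sga5.AmpleFib.isAmple_pullback φ hL⟩

/-- Every quasi-compact open of a group scheme locally of finite type over a field has an ample
module. -/
theorem exists_isAmple (K : Type u) [Field K] (G : Over (Spec (CommRingCat.of K))) [GrpObj G]
    [LocallyOfFiniteType G.hom] (C : G.left.Opens) (hC : IsCompact (C : Set G.left)) :
    ∃ L : C.toScheme.Modules, CohB1.IsAmple L := by
  let Kb := AlgebraicClosure K
  let p : Spec (CommRingCat.of Kb) ⟶ Spec (CommRingCat.of K) := bc K Kb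
  let G' := (Over.pullback p).obj G
  have hft : LocallyOfFiniteType G'.hom := by
    change LocallyOfFiniteType (Limits.pullback.snd G.hom p)
    infer_instance
  let _ : GrpObj G' := Functor.grpObjObj
  let f : G'.left ⟶ G.left := pullback.fst G.hom p
  have hp : IsAffineHom p := inferInstanceAs (IsAffineHom (Spec.map _))
  have hf : IsAffineHom f := MorphismProperty.pullback_fst (P := @IsAffineHom) _ _ hp
  have hC' : IsCompact ((f ⁻¹ᵁ C : G'.left.Opens) : Set G'.left) :=
    QuasiCompact.isCompact_preimage (f := f) _ C.2 hC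
  obtain ⟨D, hD, L, hL⟩ := exists_open_isAmple Kb G' (f ⁻¹ᵁ C) hC'
  let h : pullback (C.ι ≫ G.hom) p ⟶ G'.left :=
    pullback.map (C.ι ≫ G.hom) p G.hom p C.ι (𝟙 _) (𝟙 _) (by simp) (by simp)
  have hh : IsOpenImmersion h := inferInstanceAs (IsOpenImmersion (pullback.map (C.ι ≫ G.hom) p
    G.hom p C.ι (𝟙 _) (𝟙 _) (by simp) (by simp)))
  have hhf : h ≫ f = pullback.fst (C.ι ≫ G.hom) p ≫ C.ι := pullback.lift_fst _ _ _
  let g : pullback (C.ι ≫ G.hom) p ⟶ D.toScheme := IsOpenImmersion.lift D.ι h (by
    rintro _ ⟨y, rfl⟩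
    rw [Scheme.Opens.range_ι]
    apply hD
    change f (h y) ∈ C
    rw [← Scheme.Hom.comp_apply, hhf, Scheme.Hom.comp_apply]
    exact (pullback.fst (C.ι ≫ G.hom) p y).2)
  have hg : g ≫ D.ι = h := IsOpenImmersion.lift_fac _ _ _
  have hgo : IsOpenImmersion g := by
    have : IsOpenImmersion (g ≫ D.ι) := by rw [hg]; infer_instance
    exact IsOpenImmersion.of_comp g D.ι
  have hcC : CompactSpace C.toScheme := isCompact_iff_compactSpace.1 hC
  have hcp : CompactSpace (pullback (C.ι ≫ G.hom) p : Scheme.{u}) :=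
    QuasiCompact.compactSpace_of_compactSpace (pullback.fst (C.ι ≫ G.hom) p)
  have hqs := Flat2H.FamOpen.quasiSeparatedSpace_of_isAmple hL
  have hgq : QuasiCompact g := inferInstance
  have h1 := Groth.Agent.CalgB.AmpleBase.isAmple_pullback_of_isImmersion g hL
  exact VarietyA.AmpleField.exists_isAmple K Kb (C.ι ≫ G.hom) _ h1

/-- Finite sets of points in group schemes locally of finite type over a field lie in affine
opens. -/
theorem isAF (K : Type u) [Field K] (G : Over (Spec (CommRingCat.of K))) [GrpObj G]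
    [LocallyOfFiniteType G.hom] : FinDesc.IsAF G.left := by
  intro s hs
  choose U hU hx _ using fun x : G.left => exists_isAffineOpen_mem_and_subset (x := x) (U := ⊤) trivial
  have hC : IsCompact ((⨆ x : s, U x : G.left.Opens) : Set G.left) := by
    have := hs.to_subtype
    rw [TopologicalSpace.Opens.coe_iSup]
    exact isCompact_iUnion fun x => (hU x).isCompact
  have hsC : s ⊆ ((⨆ x : s, U x : G.left.Opens) : Set G.left) := fun x hxs =>
    TopologicalSpace.Opens.mem_iSup.2 ⟨⟨x, hxs⟩, hx x⟩
  generalize (⨆ x : s, U x : G.left.Opens) = C at hC hsC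
  obtain ⟨L, hL⟩ := exists_isAmple K G C hC
  obtain ⟨n, σ, h1, -, h3⟩ := Ega2.FiniteSet.exists_affine_genLocus_of_finite hL (C.ι ⁻¹' s)
    (hs.preimage C.ι.isOpenEmbedding.injective.injOn) ⊤ (fun _ _ => trivial)
  refine ⟨C.ι ''ᵁ (CohB1.genLocus _ σ), h3.image_of_isOpenImmersion _, fun x hxs => ?_⟩
  exact ⟨⟨x, hsC hxs⟩, h1 hxs, rfl⟩

end Groth.Agent.Pic13.H955.GroupAF
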