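import Groth.Agent.Pic13.H955.RepDef
import Groth.Agent.Ega3A.PicLocBase
import Groth.Agent.Picfga.PicBridge
import Groth.Agent.Picfga.H0

/-!
# The rigidified Picard functor along a section

If `rigF f w` is an étale sheaf whose classes are determined by the underlying classes of modules, and every
invertible class is locally on the base underlying a rigidified class, then a scheme representing the
étale-sheafified Picard functor carries a universal element of `rigF f w`.
-/

set_option autoImplicit false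
set_option backward.isDefEq.respectTransparency false
universe u v

open CategoryTheory CategoryTheory.Limits AlgebraicGeometry Opposite

namespace Groth.Agent.Pic13.H955.RigBase

open Groth.Agent.Pic13.H602.Rig Groth.Agent.Pic13.H955.FinDesc Groth.Agent.Pic13.H955.RepDef
open Groth.Agent.Fdesc Groth.Agent.Fdesc.LocGen Groth.Agent.Picfga.LineHom
  Groth.Agent.Picfga.LineDescent Groth.Agent.Picfga.LineFam Groth.Agent.Picfga.HilbPull
open Groth.Agent.Ega3A.PicEtSh Groth.Agent.Ega3A.PicLocBase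
open Groth.Agent.Picfga.OverRep (map_comp_apply map_eq_of_eq)

section local_

variable {W Y : Scheme.{u}} {σ : W ⟶ Y}

/-- If `Γ(Y, O) → Γ(W, O)` is bijective, rigidified classes are determined by the underlying class. -/
lemma cl_injective (hb : Function.Bijective σ.appTop) : Function.Injective (RCl.cl (σ := σ)) := by
  intro c c' h
  obtain ⟨R, rfl⟩ := c.exists_rep
  obtain ⟨R', rfl⟩ := c'.exists_rep
  rw [RB.cls_cl, RB.cls_cl] at h
  rw [RB.cls_eq_iff]
  obtain ⟨θ, hθ⟩ := exists_isArr (show σ ≫ 𝟙 Y = 𝟙 W ≫ σ by simp) R.inv hb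
    (h.symm.trans (Groth.Agent.Picfga.RigSheaf.pullCl_id _).symm) R.ρ R'.ρ
  exact ⟨⟨θ, hθ⟩⟩

/-- A class with trivial restriction to `W` underlies a rigidified class. -/
lemma exists_of_cl {c : PicF.Cl Y} (hc : PicF.IsInvertibleCl c)
    (h : PicF.pullCl σ c = PicF.cl (Coh.structureModule W)) : ∃ r : RCl σ, r.cl = c := by
  obtain ⟨L, rfl, hL⟩ := hc
  obtain ⟨ρ⟩ := Fam.nonempty_of_cl_eq (G := σ) (L := L) (L' := Coh.structureModule W) h.symm
  exact ⟨(⟨L, hL, ρ⟩ : RB σ).cls, RB.cls_cl _⟩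

end local_

section functor

variable {X S W : Scheme.{u}} (f : X ⟶ S) (w : W ⟶ X)

/-- A scheme representing the étale-sheafified Picard functor carries a universal element of `rigF f w`. -/
theorem exists_univ_of_isRelPic (hsh : IsEtSheaf (rigF f w))
    (hinj : ∀ (T : Over S) (c c' : RCl (wT f w T)), c.cl = c'.cl → c = c')
    (hsurj : ∀ (T : Over S) (c : PicF.Cl (PicF.XT f T)), PicF.IsInvertibleCl c → ∀ t : T.left,
      ∃ U : T.left.Opens, t ∈ U ∧ ∃ r : RCl (wT f w (Over.mk (U.ι ≫ T.hom))),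
        r.cl = PicF.pullCl (PicF.XTmap f (Groth.Agent.Picfga.OverRep.res T U)) c)
    {P : Over S} (hP : PicRel.RepresentedBy f P) :
    ∃ ξ : (rigF f w).obj (op P), IsUniv (rigF f w) P ξ := by
  obtain ⟨φ, hφ⟩ := hP
  -- the comparison map
  let m : ∀ T : Over S, (rigF f w).obj (op T) → (T ⟶ P) := fun T c => φ T (RCl.cl (σ := wT f w T) c)
  have clmap : ∀ {T T' : Over S} (g : T' ⟶ T) (c : (rigF f w).obj (op T)),
      RCl.cl (σ := wT f w T') ((rigF f w).map g.op c) =
        PicF.pullCl (PicF.XTmap f g) (RCl.cl (σ := wT f w T) c) := fun g c => RCl.cl_pull _ _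
  have hm : ∀ {T T' : Over S} (g : T' ⟶ T) (c : (rigF f w).obj (op T)),
      m T' ((rigF f w).map g.op c) = g ≫ m T c := by
    intro T T' g c
    change φ T' (RCl.cl (σ := wT f w T') ((rigF f w).map g.op c)) = _
    rw [clmap]
    exact hφ.natural T T' g _ (RCl.isInvertibleCl _)
  have minj : ∀ T, Function.Injective (m T) := by
    intro T c c' h
    obtain ⟨ι, U, hU, h1⟩ := hφ.locallyInjective T _ _ (RCl.isInvertibleCl _) (RCl.isInvertibleCl _) h
    apply hsh.ext_cover T (ecovOf U hU)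
    intro i
    apply hinj
    rw [clmap, clmap]
    exact h1 i
  have msurj : ∀ T, Function.Surjective (m T) := by
    intro T g
    obtain ⟨ι, U, hU, h1⟩ := hφ.locallySurjective T g
    choose c hc h1 using h1
    choose V hV r hr using fun i => hsurj (PicRel.ovr T (U i)) (c i) (hc i)
    let 𝒱 := Groth.Agent.Ega3A.PicDiv.LocEq.bind (ecovOf U hU) (fun i =>
      ofCov (Groth.Agent.Picfga.OverRep.pointCover (PicRel.ovr T (U i)) (V i) (hV i)))
    let y : ∀ i : 𝒱.ι, (rigF f w).obj (op (𝒱.V i)) := fun i => r i.1 i.2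
    have hy : ∀ i : 𝒱.ι, m _ (y i) = 𝒱.j i ≫ g := by
      intro i
      have h2 : φ _ (RCl.cl (r i.1 i.2)) = Groth.Agent.Picfga.OverRep.res _ _ ≫ PicRel.ovrHom T (U i.1) ≫ g := by
        rw [hr, hφ.natural _ _ _ _ (hc i.1), h1]
      refine Eq.trans h2 ?_
      rw [← Category.assoc]
      rfl
    obtain ⟨x, hx, -⟩ := hsh T 𝒱 y (by
      intro i k Z a b hab
      apply minj
      rw [hm, hm, hy, hy, ← Category.assoc, hab, Category.assoc])
    refine ⟨x, ?_⟩
    apply hom_ext_ecov 𝒱
    intro i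
    rw [← hm, hx, hy]
  obtain ⟨ξ, hξ⟩ := msurj P (𝟙 P)
  refine ⟨ξ, fun T x => ⟨m T x, ?_, fun g hg => ?_⟩⟩
  · apply minj
    rw [hm, hξ, Category.comp_id]
  · rw [← hg, hm, hξ, Category.comp_id]

end functor

section section_

variable {X S : Scheme.{u}} (f : X ⟶ S) (σ : S ⟶ X) (hσ : σ ≫ f = 𝟙 S)

/-- The identification of `XT (σ ≫ f) T` with `T`. -/
noncomputable def jT (T : Over S) : T.left ⟶ PicF.XT (σ ≫ f) T :=
  pullback.lift T.hom (𝟙 _) (by rw [hσ, Category.comp_id, Category.id_comp])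

lemma jT_wT (T : Over S) : jT f σ hσ T ≫ wT f σ T = PicF.secT f σ hσ T := by
  apply pullback.hom_ext
  · rw [Category.assoc, wT_fst, jT, pullback.lift_fst_assoc, Groth.Agent.Picfga.RigSheaf.secT_fst]
  · rw [Category.assoc, wT_snd, jT, pullback.lift_snd]
    exact (Groth.Agent.Picfga.RigSheaf.secT_proj f σ hσ T).symm

instance isIso_jT (T : Over S) : IsIso (jT f σ hσ T) := by
  have h : IsIso (pullback.snd (σ ≫ f) T.hom) := by
    have : IsIso (σ ≫ f) := by rw [hσ]; infer_instance
    infer_instance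
  have h2 : jT f σ hσ T ≫ pullback.snd (σ ≫ f) T.hom = 𝟙 _ := pullback.lift_snd _ _ _
  have h3 : jT f σ hσ T = inv (pullback.snd (σ ≫ f) T.hom) := by
    rw [← cancel_mono (pullback.snd (σ ≫ f) T.hom), h2, IsIso.inv_hom_id]
  rw [h3]
  infer_instance

include hσ in
lemma bijective_wT_appTop (hF : ∀ T : Over S, Function.Bijective (PicF.XTproj f T).appTop) (T : Over S) :
    Function.Bijective (wT f σ T).appTop := by
  have h1 := Groth.Agent.Picfga.RigSheaf.bijective_secT_appTop (σ := σ) (hσ := hσ) hF T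
  have h2 : (wT f σ T).appTop ≫ (jT f σ hσ T).appTop = (PicF.secT f σ hσ T).appTop := by
    rw [← Scheme.Hom.comp_appTop, jT_wT]
  have h3 : IsIso (jT f σ hσ T).appTop := inferInstance
  have h4 : IsIso (PicF.secT f σ hσ T).appTop := (ConcreteCategory.isIso_iff_bijective _).2 h1
  have h5 : IsIso (wT f σ T).appTop := by
    have : (wT f σ T).appTop = (PicF.secT f σ hσ T).appTop ≫ inv (jT f σ hσ T).appTop := by
      rw [← h2, Category.assoc, IsIso.hom_inv_id, Category.comp_id]
    rw [this]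
    infer_instance
  exact (ConcreteCategory.isIso_iff_bijective _).1 h5

include hσ in
/-- The base case: a section `σ` of `f`, universally `f_* O = O`, `rigF f σ` an étale sheaf. -/
theorem exists_univ_of_section (hF : ∀ T : Over S, Function.Bijective (PicF.XTproj f T).appTop)
    (hsh : IsEtSheaf (rigF f σ)) {P : Over S} (hP : PicRel.RepresentedBy f P) :
    ∃ ξ : (rigF f σ).obj (op P), IsUniv (rigF f σ) P ξ := by
  refine exists_univ_of_isRelPic f σ hsh
    (fun T c c' h => cl_injective (bijective_wT_appTop f σ hσ hF T) h) ?_ hP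
  intro T c hc t
  obtain ⟨d, rfl⟩ := Groth.Agent.Picfga.PicBridge.exists_ofPic hc
  obtain ⟨U, ht, hU⟩ := Groth.Agent.Picfga.PicBridge.exists_open_pull_eq_one
    (Groth.Agent.Grpsch.PicGrp.pull (PicF.secT f σ hσ T) d) t
  refine ⟨U, ht, ?_⟩
  rw [← Groth.Agent.Picfga.PicBridge.ofPic_pull]
  apply exists_of_cl (Groth.Agent.Picfga.PicBridge.isInvertibleCl_ofPic _)
  rw [← Groth.Agent.Picfga.PicBridge.ofPic_pull]
  change PicF.IsTrivialCl _
  rw [Groth.Agent.Picfga.PicBridge.isTrivialCl_ofPic]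
  have h1 : Groth.Agent.Grpsch.PicGrp.pull (PicF.secT f σ hσ (Over.mk (U.ι ≫ T.hom)))
      (Groth.Agent.Grpsch.PicGrp.pull (PicF.XTmap f (Groth.Agent.Picfga.OverRep.res T U)) d) = 1 := by
    rw [Groth.Agent.Picfga.PicBridge.pull_secT_pull]
    exact hU
  rw [← jT_wT, Groth.Agent.Grpsch.PicGrp.pull_comp] at h1
  have h2 := congrArg (Groth.Agent.Grpsch.PicGrp.pull
    (inv (jT f σ hσ (Over.mk (U.ι ≫ T.hom))))) h1
  rw [map_one, ← Groth.Agent.Grpsch.PicGrp.pull_comp, IsIso.inv_hom_id,
    Groth.Agent.Grpsch.PicGrp.pull_id] at h2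
  exact h2

end section_

end Groth.Agent.Pic13.H955.RigBase
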