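import Groth.Agent.Pic13.H955.RigBC
import Groth.Agent.Pic13.H955.RigBase

/-!
# Invariance of `Rep` under isomorphisms of the source; the finite case
-/

set_option autoImplicit false
set_option backward.isDefEq.respectTransparency false
universe u v

open CategoryTheory CategoryTheory.Limits AlgebraicGeometry Opposite

namespace Groth.Agent.Pic13.H955.RepIso

open Groth.Agent.Pic13.H602.Rig Groth.Agent.Pic13.H955.FinDesc Groth.Agent.Pic13.H955.RepDef
open Groth.Agent.Fdesc Groth.Agent.Fdesc.LocGen Groth.Agent.Picfga.LineHom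
  Groth.Agent.Picfga.LineDescent Groth.Agent.Picfga.LineFam Groth.Agent.Picfga.HilbPull

/-- Transport of universal elements along natural bijections, the other way. -/
lemma exists_univ_of_bij {S : Scheme.{u}} {F G : (Over S)ᵒᵖ ⥤ Type v}
    (φ : ∀ T : Over S, G.obj (op T) → F.obj (op T))
    (hφ : ∀ T, Function.Bijective (φ T))
    (nat : ∀ {T T' : Over S} (g : T' ⟶ T) (c : G.obj (op T)), φ T' (G.map g.op c) = F.map g.op (φ T c))
    {P : Over S} {ξ : F.obj (op P)} (h : IsUniv F P ξ) : ∃ ξ' : G.obj (op P), IsUniv G P ξ' := by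
  obtain ⟨ξ', hξ⟩ := (hφ P).2 ξ
  refine ⟨ξ', fun T x ↦ ?_⟩
  obtain ⟨g, hg, hg'⟩ := h T (φ T x)
  refine ⟨g, ?_, fun g' h' ↦ hg' g' ?_⟩
  · apply (hφ T).1
    refine (nat g ξ').trans ?_
    rw [hξ]
    exact hg
  · have h2 := congrArg (φ T) h'
    refine Eq.trans ?_ h2
    rw [← hξ]
    exact (nat g' ξ').symm

section source

variable {W X X' S : Scheme.{u}} (e : X' ⟶ X) (f : X ⟶ S) (w : W ⟶ X')

/-- `X'_T ⟶ X_T`. -/
noncomputable abbrev gX (T : Over S) : PicF.XT (e ≫ f) T ⟶ PicF.XT f T := wT f e T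

/-- `W_T ⟶ W_T`. -/
noncomputable def gW (T : Over S) : PicF.XT (w ≫ e ≫ f) T ⟶ PicF.XT ((w ≫ e) ≫ f) T :=
  pullback.map (w ≫ e ≫ f) T.hom ((w ≫ e) ≫ f) T.hom (𝟙 _) (𝟙 _) (𝟙 _) (by simp) (by simp)

@[reassoc (attr := simp)]
lemma gW_fst (T : Over S) : gW e f w T ≫ pullback.fst _ _ = pullback.fst _ _ := by
  simp [gW]

@[reassoc (attr := simp)]
lemma gW_snd (T : Over S) : gW e f w T ≫ pullback.snd _ _ = pullback.snd _ _ := by
  simp [gW]

instance (T : Over S) : IsIso (gW e f w T) := by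
  unfold gW
  infer_instance

instance [IsIso e] (T : Over S) : IsIso (wT f e T) := by
  unfold wT
  infer_instance

lemma sqS (T : Over S) : wT (e ≫ f) w T ≫ gX e f T = gW e f w T ≫ wT f (w ≫ e) T := by
  apply pullback.hom_ext
  · rw [Category.assoc, Category.assoc, wT_fst, wT_fst, wT_fst_assoc, gW_fst_assoc]
  · rw [Category.assoc, Category.assoc, wT_snd, wT_snd, wT_snd, gW_snd]

lemma gW_nat {T T' : Over S} (g : T' ⟶ T) : gW e f w T' ≫ PicF.XTmap ((w ≫ e) ≫ f) g =
    PicF.XTmap (w ≫ e ≫ f) g ≫ gW e f w T := by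
  apply pullback.hom_ext
  · simp only [Category.assoc, XTmap_fst, gW_fst]
  · simp only [Category.assoc, XTmap_snd, gW_snd, gW_snd_assoc]

/-- Invariance under an isomorphism of the source. -/
theorem repW_of_iso [IsIso e] (h : RepW (e ≫ f) w) : RepW f (w ≫ e) := by
  obtain ⟨P, ξ, hξ, hP⟩ := h
  obtain ⟨ξ', hξ'⟩ := exists_univ_of_bij (F := rigF (e ≫ f) w) (G := rigF f (w ≫ e))
    (fun T ↦ RCl.pull (sqS e f w T)) (fun T ↦ RigBC.pull_bijective (sqS e f w T)) (by
      intro T T' g c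
      rw [rigF_map, rigF_map, RCl.pull_pull, RCl.pull_pull]
      exact RCl.pull_congr _ _ (wT_XTmap f e g) (gW_nat e f w g) c) hξ
  exact ⟨P, ξ', hξ', hP⟩

theorem rep_of_iso [IsIso e] (h : Rep (e ≫ f)) : Rep f := by
  obtain ⟨W, w, hw, hi, hr⟩ := h
  refine ⟨W, w ≫ e, ?_, ?_, repW_of_iso e f w hr⟩
  · rw [Category.assoc]; exact hw
  · have : (w ≫ e).appTop = e.appTop ≫ w.appTop := Scheme.Hom.comp_appTop _ _
    rw [this]
    have h2 : Function.Injective e.appTop.hom :=
      (ConcreteCategory.isIso_iff_bijective e.appTop).1 inferInstance |>.1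
    exact hi.comp h2

end source

section finite

variable {X S : Scheme.{u}} (f : X ⟶ S)

instance isIso_wT_id (T : Over S) : IsIso (wT f (𝟙 X) T) := by
  unfold wT
  infer_instance

lemma subsingleton_of_isIso {W Y : Scheme.{u}} (σ : W ⟶ Y) [IsIso σ] : Subsingleton (RCl σ) := by
  have hb : Function.Bijective σ.appTop :=
    (ConcreteCategory.isIso_iff_bijective σ.appTop).1 inferInstance
  have key : ∀ c : RCl σ, c.cl = PicF.cl (Coh.structureModule Y) := by
    intro c
    obtain ⟨R, rfl⟩ := c.exists_rep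
    have h1 : PicF.cl (Coh.structureModule W) = PicF.pullCl σ (PicF.cl R.L) := R.ρ.cl_eq R.inv
    have h2 := congrArg (PicF.pullCl (inv σ)) h1
    rw [← Groth.Agent.Picfga.RigSheaf.pullCl_comp, IsIso.inv_hom_id,
      Groth.Agent.Picfga.RigSheaf.pullCl_id,
      Groth.Agent.Picfga.RigSheaf.pullCl_structureModule] at h2
    exact h2.symm
  refine ⟨fun c c' ↦ RigBase.cl_injective hb ((key c).trans (key c').symm)⟩

lemma nonempty_of_isIso {W Y : Scheme.{u}} (σ : W ⟶ Y) : Nonempty (RCl σ) := by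
  obtain ⟨r, -⟩ := RigBase.exists_of_cl (σ := σ) (c := PicF.cl (Coh.structureModule Y))
    (by
      rw [← Groth.Agent.Picfga.PicBridge.ofPic_one]
      exact Groth.Agent.Picfga.PicBridge.isInvertibleCl_ofPic _)
    (Groth.Agent.Picfga.RigSheaf.pullCl_structureModule σ)
  exact ⟨r⟩

/-- The rigidified functor along the identity is trivial. -/
theorem repW_id : RepW f (𝟙 X) := by
  obtain ⟨ξ⟩ := nonempty_of_isIso (wT f (𝟙 X) (Over.mk (𝟙 S)))
  refine ⟨Over.mk (𝟙 S), ξ, fun T x ↦ ?_, inferInstanceAs (LocallyOfFiniteType (𝟙 S))⟩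
  have := subsingleton_of_isIso (wT f (𝟙 X) T)
  refine ⟨Over.homMk T.hom (Category.comp_id _), Subsingleton.elim (α := RCl (wT f (𝟙 X) T)) _ _, ?_⟩
  intro g _
  apply Over.OverMorphism.ext
  have := Over.w g
  simpa using this

/-- The finite case. -/
theorem rep_of_isFinite [IsFinite f] : Rep f := by
  refine ⟨X, 𝟙 X, ?_, ?_, repW_id f⟩
  · rw [Category.id_comp]; infer_instance
  · rw [Scheme.Hom.id_appTop]
    exact fun _ _ h ↦ h

end finite

end Groth.Agent.Pic13.H955.RepIso
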