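import Groth.Agent.Pic13.H955.RepDef

/-!
# Base change of the rigidified Picard functor

For `q : S' ⟶ S`, the restriction of `rigF f w` to `S'`-schemes is `rigF f' w'` for the base changes `f'`, `w'`.
-/

set_option autoImplicit false
set_option backward.isDefEq.respectTransparency false
universe u v

open CategoryTheory CategoryTheory.Limits AlgebraicGeometry Opposite

namespace Groth.Agent.Pic13.H955.RigBC

open Groth.Agent.Pic13.H602.Rig Groth.Agent.Pic13.H955.FinDesc Groth.Agent.Pic13.H955.RepDef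
open Groth.Agent.Fdesc Groth.Agent.Fdesc.LocGen Groth.Agent.Picfga.LineHom
  Groth.Agent.Picfga.LineDescent Groth.Agent.Picfga.LineFam Groth.Agent.Picfga.HilbPull

section iso

variable {W W' Y Y' : Scheme.{u}} {σ : W ⟶ Y} {σ' : W' ⟶ Y'} {G : Y' ⟶ Y} {g : W' ⟶ W}

/-- Pulling back along isomorphisms is bijective. -/
lemma pull_bijective (w : σ' ≫ G = g ≫ σ) [IsIso G] [IsIso g] : Function.Bijective (RCl.pull w) := by
  have w' : σ ≫ inv G = inv g ≫ σ' := by
    rw [IsIso.comp_inv_eq, Category.assoc, w, IsIso.inv_hom_id_assoc]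
  refine Function.bijective_iff_has_inverse.2 ⟨RCl.pull w', fun c ↦ ?_, fun c ↦ ?_⟩
  · rw [RCl.pull_pull]
    exact (RCl.pull_congr _ _ (by simp) (by simp) c).trans (RCl.pull_id c)
  · rw [RCl.pull_pull]
    exact (RCl.pull_congr _ _ (by simp) (by simp) c).trans (RCl.pull_id c)

end iso

section bc

variable {W X S S' : Scheme.{u}} (f : X ⟶ S) (w : W ⟶ X) (q : S' ⟶ S)

/-- The comparison `(X ×_S S') ×_{S'} T ⟶ X ×_S T`. -/
noncomputable def eX (T : Over S') : PicF.XT (pullback.snd f q) T ⟶ PicF.XT f ((Over.map q).obj T) :=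
  pullback.lift (pullback.fst _ _ ≫ pullback.fst f q) (pullback.snd _ _) (by
    have := pullback.condition (f := pullback.snd f q) (g := T.hom)
    change _ = _ ≫ T.hom ≫ q
    rw [Category.assoc, pullback.condition, reassoc_of% this])

@[reassoc (attr := simp)]
lemma eX_fst (T : Over S') : eX f q T ≫ pullback.fst f ((Over.map q).obj T).hom =
    pullback.fst _ _ ≫ pullback.fst f q := by
  simp [eX]

@[reassoc (attr := simp)]
lemma eX_snd (T : Over S') : eX f q T ≫ pullback.snd f ((Over.map q).obj T).hom =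
    pullback.snd _ _ := by
  simp [eX]

instance (T : Over S') : IsIso (eX f q T) := by
  have h : eX f q T = (pullbackLeftPullbackSndIso f q T.hom).hom := by
    apply pullback.hom_ext
    · exact (eX_fst f q T).trans (pullbackLeftPullbackSndIso_hom_fst f q T.hom).symm
    · exact (eX_snd f q T).trans (pullbackLeftPullbackSndIso_hom_snd f q T.hom).symm
  rw [h]; infer_instance

/-- The comparison for `W`. -/
noncomputable def eW (T : Over S') :
    PicF.XT (wT f w (Over.mk q) ≫ pullback.snd f q) T ⟶ PicF.XT (w ≫ f) ((Over.map q).obj T) :=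
  pullback.lift (pullback.fst _ _ ≫ pullback.fst (w ≫ f) q) (pullback.snd _ _) (by
    have h1 := pullback.condition (f := wT f w (Over.mk q) ≫ pullback.snd f q) (g := T.hom)
    have h2 : wT f w (Over.mk q) ≫ pullback.snd f q = pullback.snd (w ≫ f) q := wT_snd f w (Over.mk q)
    change _ = _ ≫ T.hom ≫ q
    rw [← reassoc_of% h1, Category.assoc, pullback.condition, reassoc_of% h2])

@[reassoc (attr := simp)]
lemma eW_fst (T : Over S') : eW f w q T ≫ pullback.fst (w ≫ f) ((Over.map q).obj T).hom =
    pullback.fst _ _ ≫ pullback.fst (w ≫ f) q := by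
  simp [eW]

@[reassoc (attr := simp)]
lemma eW_snd (T : Over S') : eW f w q T ≫ pullback.snd (w ≫ f) ((Over.map q).obj T).hom =
    pullback.snd _ _ := by
  simp [eW]

instance (T : Over S') : IsIso (eW f w q T) := by
  have h2 : wT f w (Over.mk q) ≫ pullback.snd f q = pullback.snd (w ≫ f) q := wT_snd f w (Over.mk q)
  have e : IsIso (pullback.map (wT f w (Over.mk q) ≫ pullback.snd f q) T.hom
      (pullback.snd (w ≫ f) q) T.hom (𝟙 _) (𝟙 _) (𝟙 _) (by simp [h2]) (by simp)) := inferInstance
  have h : eW f w q T = pullback.map (wT f w (Over.mk q) ≫ pullback.snd f q) T.hom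
      (pullback.snd (w ≫ f) q) T.hom (𝟙 _) (𝟙 _) (𝟙 _) (by simp [h2]) (by simp) ≫
      (pullbackLeftPullbackSndIso (w ≫ f) q T.hom).hom := by
    apply pullback.hom_ext
    · refine (eW_fst f w q T).trans ?_
      rw [Category.assoc]
      erw [pullbackLeftPullbackSndIso_hom_fst (w ≫ f) q T.hom]
      simp
    · refine (eW_snd f w q T).trans ?_
      rw [Category.assoc]
      erw [pullbackLeftPullbackSndIso_hom_snd (w ≫ f) q T.hom]
      simp
  rw [h]; infer_instance

lemma sq (T : Over S') : wT (pullback.snd f q) (wT f w (Over.mk q)) T ≫ eX f q T =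
    eW f w q T ≫ wT f w ((Over.map q).obj T) := by
  apply pullback.hom_ext
  · rw [Category.assoc, Category.assoc, eX_fst, wT_fst, wT_fst_assoc, eW_fst_assoc]
    have h : wT f w (Over.mk q) ≫ pullback.fst f q = pullback.fst (w ≫ f) q ≫ w := wT_fst f w (Over.mk q)
    rw [h]
  · rw [Category.assoc, Category.assoc, eX_snd, wT_snd, wT_snd, eW_snd]

/-- The comparison of the rigidified functors. -/
noncomputable def bcMap (T : Over S') (c : (rigF f w).obj (op ((Over.map q).obj T))) :
    (rigF (pullback.snd f q) (wT f w (Over.mk q))).obj (op T) :=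
  RCl.pull (sq f w q T) c

lemma bcMap_bijective (T : Over S') : Function.Bijective (bcMap f w q T) :=
  pull_bijective (sq f w q T)

lemma eX_nat {T T' : Over S'} (g : T' ⟶ T) : eX f q T' ≫ PicF.XTmap f ((Over.map q).map g) =
    PicF.XTmap (pullback.snd f q) g ≫ eX f q T := by
  apply pullback.hom_ext
  · simp only [Category.assoc, XTmap_fst, eX_fst]
    rw [XTmap_fst_assoc]
  · simp only [Category.assoc, XTmap_snd, eX_snd, eX_snd_assoc]
    rfl

lemma eW_nat {T T' : Over S'} (g : T' ⟶ T) : eW f w q T' ≫ PicF.XTmap (w ≫ f) ((Over.map q).map g) =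
    PicF.XTmap (wT f w (Over.mk q) ≫ pullback.snd f q) g ≫ eW f w q T := by
  apply pullback.hom_ext
  · simp only [Category.assoc, XTmap_fst, eW_fst]
    rw [XTmap_fst_assoc]
  · simp only [Category.assoc, XTmap_snd, eW_snd, eW_snd_assoc]
    rfl

lemma bcMap_nat {T T' : Over S'} (g : T' ⟶ T) (c : (rigF f w).obj (op ((Over.map q).obj T))) :
    bcMap f w q T' ((rigF f w).map ((Over.map q).map g).op c) =
      (rigF (pullback.snd f q) (wT f w (Over.mk q))).map g.op (bcMap f w q T c) := by
  rw [rigF_map, rigF_map]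
  unfold bcMap
  rw [RCl.pull_pull, RCl.pull_pull]
  exact RCl.pull_congr _ _ (eX_nat f q g) (eW_nat f w q g) c

/-- A universal element of the base change gives a universal element of the restriction. -/
theorem exists_univ_restrict {P' : Over S'}
    {ξ' : (rigF (pullback.snd f q) (wT f w (Over.mk q))).obj (op P')}
    (h : IsUniv (rigF (pullback.snd f q) (wT f w (Over.mk q))) P' ξ') :
    ∃ ξ : (rigF f w).obj (op ((Over.map q).obj P')),
      IsUniv ((Over.map q).op ⋙ rigF f w) P' ξ := by
  obtain ⟨ξ, hξ⟩ := (bcMap_bijective f w q P').2 ξ'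
  refine ⟨ξ, fun T x ↦ ?_⟩
  obtain ⟨g, hg, hg'⟩ := h T (bcMap f w q T x)
  refine ⟨g, ?_, fun g' h' ↦ hg' g' ?_⟩
  · apply (bcMap_bijective f w q T).1
    refine (bcMap_nat f w q g ξ).trans ?_
    rw [hξ]
    exact hg
  · have h2 := congrArg (bcMap f w q T) h'
    refine Eq.trans ?_ h2
    rw [← hξ]
    exact (bcMap_nat f w q g' ξ).symm

end bc

end Groth.Agent.Pic13.H955.RigBC
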