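import Groth.Agent.Pic13.H955.RigBC
import Groth.Agent.Pic13.H955.GroupAF

/-!
# Finite descent for the rigidified Picard functor
-/

set_option autoImplicit false
set_option backward.isDefEq.respectTransparency false
universe u v

open CategoryTheory CategoryTheory.Limits AlgebraicGeometry Opposite

namespace Groth.Agent.Pic13.H955.RigDesc

open Groth.Agent.Pic13.H602.Rig Groth.Agent.Pic13.H955.FinDesc Groth.Agent.Pic13.H955.RepDef
  Groth.Agent.Pic13.H955.RigBC

variable {W X S S' : Scheme.{u}} (f : X ⟶ S) (w : W ⟶ X) (q : S' ⟶ S)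

/-- Descent of the representability of `rigF f w` along a finite locally free surjective morphism. -/
theorem repW_desc (hq : Mor2.IsFinLocFree q) (hqs : Surjective q) (hF : IsFlfSheaf (rigF f w))
    (hAF : ∀ (P' : Over S') (ξ' : (rigF (pullback.snd f q) (wT f w (Over.mk q))).obj (op P')),
      IsUniv (rigF (pullback.snd f q) (wT f w (Over.mk q))) P' ξ' → LocallyOfFiniteType P'.hom →
      IsAF P'.left)
    (h : RepW (pullback.snd f q) (wT f w (Over.mk q))) : RepW f w := by
  obtain ⟨P', ξ', hP', hlft⟩ := h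
  obtain ⟨ξ, hξ⟩ := exists_univ_restrict f w q hP'
  obtain ⟨P, η, p, hu, -, hpb⟩ := exists_univ q (rigF f w) P' ξ hξ hq hqs hF (hAF P' ξ' hP' hlft)
  exact ⟨P, η, hu, (props q P' hq hqs hpb).2 hlft⟩

/-- The graph morphism. -/
lemma exists_graph {W' : Scheme.{u}} (w' : W' ⟶ pullback f q) :
    ∃ v : W' ⟶ PicF.XT ((w' ≫ pullback.fst f q) ≫ f) (Over.mk q),
      v ≫ wT f (w' ≫ pullback.fst f q) (Over.mk q) = w' := by
  refine ⟨pullback.lift (𝟙 _) (w' ≫ pullback.snd f q) ?_, ?_⟩
  · change _ = _ ≫ q
    rw [Category.id_comp, Category.assoc, Category.assoc, pullback.condition]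
  · apply pullback.hom_ext
    · rw [Category.assoc, wT_fst, pullback.lift_fst_assoc, Category.id_comp]
      rfl
    · rw [Category.assoc, wT_snd, pullback.lift_snd]
      rfl

end Groth.Agent.Pic13.H955.RigDesc
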