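import Groth.Agent.Pic13.H17.Patch
import Groth.Agent.Picfga.ClosedMap
import Groth.Agent.Flat2G.StratGlue
import Groth.Agent.CohqB.RpushFin
import Groth.Agent.CohqA.IdealMod

/-!
# The union of two closed subschemes is a patching square

If `I ⊓ J = ⊥` then `V(I) ⟶ Z` together with the ideal `J` is a patching square.
-/

set_option autoImplicit false
universe u

open CategoryTheory CategoryTheory.Limits AlgebraicGeometry

namespace Groth.Agent.Pic13.H955.UnionPatch

variable {Z : Scheme.{u}}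

lemma ideal_eq_bot (I J : Z.IdealSheafData) (hIJ : I ⊓ J = ⊥) (U : Z.affineOpens)
    (hU : U.1 ≤ J.support.compl) : I.ideal U = ⊥ := by
  have h1 : J.ideal U = ⊤ := by
    apply Flat2G.StratGlue.ideal_eq_top_of_disjoint
    rw [Set.disjoint_left]
    intro x hx hxU
    exact hU hxU hx
  have h2 : (I ⊓ J).ideal U = I.ideal U ⊓ J.ideal U := rfl
  rw [h1, inf_top_eq] at h2
  rw [← h2, hIJ]
  rfl

lemma comap_eq_bot (I : Z.IdealSheafData) (V : Z.Opens)
    (h : ∀ U : Z.affineOpens, U.1 ≤ V → I.ideal U = ⊥) : I.comap V.ι = ⊥ := by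
  ext W : 2
  have h1 : V.ι ''ᵁ W.1 ≤ V := by
    rintro _ ⟨x, -, rfl⟩
    exact x.2
  have h2 : IsAffineOpen (V.ι ''ᵁ W.1) := W.2.image_of_isOpenImmersion _
  rw [Divis.IdealComap.ideal_comap I V.ι ⟨V.ι ''ᵁ W.1, h2⟩ W
    (by rw [Scheme.Hom.preimage_image_eq]), h ⟨V.ι ''ᵁ W.1, h2⟩ h1, Ideal.map_bot]
  rfl

lemma isIso_restrict (I : Z.IdealSheafData) (V : Z.Opens) (h : I.comap V.ι = ⊥) :
    IsIso (I.subschemeι ∣_ V) := by
  have h1 : IsIso (pullback.fst V.ι I.subschemeι) := by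
    have h2 : IsIso (I.comap V.ι).subschemeι := by
      rw [Scheme.isIso_subschemeι_iff_eq_bot]
      exact h
    rw [← Scheme.IdealSheafData.comapIso_inv_subschemeι I V.ι]
    infer_instance
  have h3 := isPullback_morphismRestrict I.subschemeι V
  have h4 : h3.isoPullback.hom ≫ pullback.fst V.ι I.subschemeι = I.subschemeι ∣_ V :=
    h3.isoPullback_hom_fst
  rw [← h4]
  infer_instance

/-- (see the module docstring) -/
theorem isPatch_union (I J : Z.IdealSheafData) (hIJ : I ⊓ J = ⊥) :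
    H17.Patch.IsPatch I.subschemeι J where
  iso := isIso_restrict I _ (comap_eq_bot I _ fun U hU => ideal_eq_bot I J hIJ U hU)
  m1 := by
    intro U a ha
    have h1 : a ∈ (J.comap I.subschemeι).ideal ⟨I.subschemeι ⁻¹ᵁ U.1, U.2.preimage _⟩ := by
      have := ha ⟨I.subschemeι ⁻¹ᵁ U.1, U.2.preimage _⟩ le_rfl
      simpa using this
    rw [Picfga.ClosedMap.ideal_comap_preimage, Ideal.mem_map_iff_of_surjective _
      (I.subschemeι_app_surjective U)] at h1
    obtain ⟨c, hc, hca⟩ := h1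
    refine ⟨c, ⟨hc, hca⟩, ?_⟩
    rintro c' ⟨hc', hca'⟩
    have h2 : c' - c ∈ I.ideal U := by
      rw [← I.ker_subschemeι_app U, RingHom.mem_ker, map_sub, sub_eq_zero]
      exact hca'.trans hca.symm
    have h3 : c' - c ∈ (I ⊓ J).ideal U := ⟨h2, sub_mem hc' hc⟩
    rw [hIJ] at h3
    exact sub_eq_zero.1 h3
  m2 := by
    intro U j m hj hm
    exact CohqB.RpushFin.subsingleton_HHon _ (CohqA.IdealMod.isQCoh_idealMod _) (U.2.preimage _) j hj

end Groth.Agent.Pic13.H955.UnionPatch
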