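import Groth.Agent.Pic13.H955.ClosedInd
import Groth.Agent.Pic13.H955.UnionPatch
import Groth.Prelude.Def_CohB1
import Mathlib.AlgebraicGeometry.Geometrically.Integral
import Mathlib.LinearAlgebra.FiniteDimensional.Defs
import Mathlib.AlgebraicGeometry.Morphisms.Proper

/-!
# Rules for the devissage of the Picard functor

`IsGood Rep`: a predicate `Rep k X p` for `k`-schemes `p : X ⟶ Spec k` satisfying the rules used in the devissage (empty
scheme, projective geometrically integral with a rational point, square-zero thickenings, patching squares, finite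
extensions of the base field).
`rep_of_integral`: it suffices to know `Rep` for the integral closed subschemes.
-/

set_option autoImplicit false
universe u

open CategoryTheory CategoryTheory.Limits AlgebraicGeometry

namespace Groth.Agent.Pic13.H955.Rules

/-- The rules. -/
structure IsGood (Rep : ∀ (k : Type u) [Field k] (X : Scheme.{u}), (X ⟶ Spec (CommRingCat.of k)) → Prop) :
    Prop where
  empty : ∀ (k : Type u) [Field k] (X : Scheme.{u}) (p : X ⟶ Spec (CommRingCat.of k)),
    IsEmpty X → Rep k X p
  base : ∀ (k : Type u) [Field k] (n : ℕ) (X : Scheme.{u})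
    (i : X ⟶ CohB1.ProjSpaceOver n (Spec (CommRingCat.of k)))
    (x : Spec (CommRingCat.of k) ⟶ X), IsClosedImmersion i →
    GeometricallyIntegral (i ≫ CohB1.ProjSpaceOver.toBase n (Spec (CommRingCat.of k))) →
    x ≫ i ≫ CohB1.ProjSpaceOver.toBase n (Spec (CommRingCat.of k)) = 𝟙 _ →
    Rep k X (i ≫ CohB1.ProjSpaceOver.toBase n (Spec (CommRingCat.of k)))
  sqz : ∀ (k : Type u) [Field k] (X : Scheme.{u}) (p : X ⟶ Spec (CommRingCat.of k))
    (J : X.IdealSheafData), IsProper p → J * J = ⊥ → Rep k J.subscheme (J.subschemeι ≫ p) →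
    Rep k X p
  patch : ∀ (k : Type u) [Field k] (X X' : Scheme.{u}) (p : X ⟶ Spec (CommRingCat.of k))
    (b : X' ⟶ X) (I : X.IdealSheafData), IsProper p → IsProper b → H17.Patch.IsPatch b I →
    Rep k X' (b ≫ p) → Rep k I.subscheme (I.subschemeι ≫ p) → Rep k X p
  desc : ∀ (k k' : Type u) [Field k] [Field k'] [Algebra k k'] [FiniteDimensional k k']
    (X : Scheme.{u}) (p : X ⟶ Spec (CommRingCat.of k)), IsProper p →
    Rep k' (pullback p (Spec.map (CommRingCat.ofHom (algebraMap k k')))) (pullback.snd _ _) →
    Rep k X p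

section SqZero

variable {Z : Scheme.{u}}

lemma isReduced_of_nilradical_eq_bot (h : Z.nilradical = ⊥) : IsReduced Z := by
  have key : ∀ U : Z.affineOpens, IsReduced (U.1 : Scheme.{u}) := by
    intro U
    have hU : IsAffine U.1 := U.2
    have h1 : Z.nilradical.ideal U = ⊥ := by rw [h]; rfl
    have h2 : nilradical Γ(Z, U.1) = ⊥ := h1
    have h3 : _root_.IsReduced Γ(Z, U.1) := (nilradical_eq_bot_iff).1 h2
    have h4 : _root_.IsReduced Γ(U.1.toScheme, ⊤) :=
      isReduced_of_injective U.1.topIso.hom.hom
        (ConcreteCategory.injective_of_mono_of_preservesPullback U.1.topIso.hom)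
    exact isReduced_of_isAffine_isReduced _
  have : ∀ i, IsReduced ((Z.openCoverOfIsOpenCover (fun U : Z.affineOpens => U.1)
      (iSup_affineOpens_eq_top Z)).X i) := key
  exact IsReduced.of_openCover _ (Z.openCoverOfIsOpenCover (fun U : Z.affineOpens => U.1)
      (iSup_affineOpens_eq_top Z))

theorem exists_pow_nilradical (Z : Scheme.{u}) [IsNoetherian Z] : ∃ n : ℕ, Z.nilradical ^ n = ⊥ := by
  obtain ⟨s, hs, e⟩ := (isCompact_and_isOpen_iff_finite_and_eq_biUnion_affineOpens (X := Z)
    (U := Set.univ)).1 ⟨isCompact_univ, isOpen_univ⟩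
  have hnil : ∀ U : Z.affineOpens, ∃ n : ℕ, (Z.nilradical.ideal U) ^ n = ⊥ := by
    intro U
    have : IsNoetherianRing Γ(Z, U.1) := IsLocallyNoetherian.component_noetherian U
    exact IsNoetherianRing.isNilpotent_nilradical Γ(Z, U.1)
  choose n hn using hnil
  obtain ⟨N, hN⟩ : ∃ N : ℕ, ∀ U ∈ s, n U ≤ N := by
    obtain ⟨N, hN⟩ := (hs.image n).bddAbove
    exact ⟨N, fun U hU => hN ⟨U, hU, rfl⟩⟩
  refine ⟨N, Scheme.IdealSheafData.ext_of_iSup_eq_top (fun i : s => i.1) ?_ fun i => ?_⟩
  · rw [eq_top_iff]
    intro x _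
    have hx : x ∈ (Set.univ : Set Z) := trivial
    rw [e] at hx
    simp only [Set.mem_iUnion] at hx
    obtain ⟨i, hi, hxi⟩ := hx
    exact TopologicalSpace.Opens.mem_iSup.2 ⟨⟨i, hi⟩, hxi⟩
  · have h1 : (Z.nilradical ^ N).ideal i.1 = (Z.nilradical.ideal i.1) ^ N := rfl
    rw [h1]
    have h2 := Ideal.pow_le_pow_right (I := Z.nilradical.ideal i.1) (hN i.1 i.2)
    rw [hn] at h2
    exact le_bot_iff.1 h2

theorem exists_sq_zero (Z : Scheme.{u}) [IsNoetherian Z] (h : ¬ IsReduced Z) :
    ∃ J : Z.IdealSheafData, J ≠ ⊥ ∧ J * J = ⊥ := by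
  classical
  have hex := exists_pow_nilradical Z
  have hN : Z.nilradical ≠ ⊥ := fun e => h (isReduced_of_nilradical_eq_bot e)
  have h0 : Nat.find hex ≠ 0 := by
    intro e
    have := Nat.find_spec hex
    rw [e, pow_zero] at this
    have h2 : (⊤ : Z.IdealSheafData) = ⊥ := this
    exact hN (le_bot_iff.1 (h2 ▸ le_top))
  have h1 : Nat.find hex ≠ 1 := by
    intro e
    have := Nat.find_spec hex
    rw [e, pow_one] at this
    exact hN this
  obtain ⟨m, hm⟩ : ∃ m, Nat.find hex = m + 2 := ⟨Nat.find hex - 2, by omega⟩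
  refine ⟨Z.nilradical ^ (m + 1), Nat.find_min hex (by omega), ?_⟩
  rw [← pow_add, show m + 1 + (m + 1) = (m + 2) + m by ring, pow_add, ← hm, Nat.find_spec hex]
  exact Scheme.IdealSheafData.bot_mul _

end SqZero

section Integral

variable {Rep : ∀ (k : Type u) [Field k] (X : Scheme.{u}), (X ⟶ Spec (CommRingCat.of k)) → Prop}

lemma inf_vanishingIdeal_eq_bot {Z : Scheme.{u}} [IsReduced Z] (A B : TopologicalSpace.Closeds Z)
    (h : A ⊔ B = ⊤) : Scheme.IdealSheafData.vanishingIdeal A ⊓
      Scheme.IdealSheafData.vanishingIdeal B = ⊥ := by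
  have h1 : Scheme.IdealSheafData.vanishingIdeal (A ⊔ B) =
      Scheme.IdealSheafData.vanishingIdeal A ⊓ Scheme.IdealSheafData.vanishingIdeal B :=
    Scheme.IdealSheafData.gc.u_inf
  rw [← h1, h, Scheme.IdealSheafData.vanishingIdeal_top, Scheme.nilradical_eq_bot]

/-- It suffices to know `Rep` for integral closed subschemes. -/
theorem rep_of_integral (R : IsGood Rep) (k : Type u) [Field k] (X : Scheme.{u})
    (p : X ⟶ Spec (CommRingCat.of k)) [IsProper p]
    (h : ∀ (Z : Scheme.{u}) (i : Z ⟶ X), IsClosedImmersion i → IsIntegral Z → Rep k Z (i ≫ p)) :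
    Rep k X p := by
  have hn : IsNoetherian X := by
    have : IsLocallyNoetherian X := LocallyOfFiniteType.isLocallyNoetherian p
    have : CompactSpace X := QuasiCompact.compactSpace_of_compactSpace p
    exact {}
  refine ClosedInd.closed_induction (fun Z q => IsProper q → (∀ (Z' : Scheme.{u}) (i : Z' ⟶ Z),
    IsClosedImmersion i → IsIntegral Z' → Rep k Z' (i ≫ q)) → Rep k Z q) ?_ X p ‹_› h
  clear h hn
  rename_i hp0
  clear hp0 p X
  intro X p hn IH hp h
  -- proper closed subschemes are fine
  have IH' : ∀ J : X.IdealSheafData, J ≠ ⊥ → Rep k J.subscheme (J.subschemeι ≫ p) := by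
    intro J hJ
    refine IH _ J.subschemeι inferInstance ?_ inferInstance ?_
    · rw [Scheme.isIso_subschemeι_iff_eq_bot]
      exact hJ
    · intro Z' i hi hZ'
      rw [← Category.assoc]
      exact h Z' (i ≫ J.subschemeι) inferInstance hZ'
  by_cases hr : IsReduced X
  · by_cases hne : Nonempty X
    · by_cases hirr : IrreducibleSpace X
      · have : IsIntegral X := by
          rw [isIntegral_iff_irreducibleSpace_and_isReduced]
          exact ⟨hirr, hr⟩
        have := h X (𝟙 X) inferInstance this
        rwa [Category.id_comp] at this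
      · -- two proper closed subsets covering `X`
        obtain ⟨A, B, hA, hB, hAB⟩ : ∃ A B : TopologicalSpace.Closeds X, A ≠ ⊤ ∧ B ≠ ⊤ ∧
            A ⊔ B = ⊤ := by
          by_contra hcon
          push Not at hcon
          apply hirr
          have hpre : PreirreducibleSpace X := by
            refine ⟨?_⟩
            rw [isPreirreducible_iff_isClosed_union_isClosed]
            intro U V hU hV hUV
            by_contra h2
            push Not at h2
            refine hcon ⟨U, hU⟩ ⟨V, hV⟩ ?_ ?_ ?_
            · intro e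
              exact h2.1 (congrArg (fun C : TopologicalSpace.Closeds X => (C : Set X)) e).ge
            · intro e
              exact h2.2 (congrArg (fun C : TopologicalSpace.Closeds X => (C : Set X)) e).ge
            · rw [eq_top_iff]
              exact hUV
          exact { toPreirreducibleSpace := hpre, toNonempty := hne }
        have hI : ∀ A : TopologicalSpace.Closeds X, A ≠ ⊤ →
            Scheme.IdealSheafData.vanishingIdeal A ≠ ⊥ := by
          intro A hA e
          apply hA
          apply SetLike.coe_injective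
          rw [← Scheme.IdealSheafData.coe_support_vanishingIdeal A, e]
          rfl
        exact R.patch k X _ p (Scheme.IdealSheafData.vanishingIdeal A).subschemeι
          (Scheme.IdealSheafData.vanishingIdeal B) hp inferInstance
          (UnionPatch.isPatch_union _ _ (inf_vanishingIdeal_eq_bot A B hAB))
          (IH' _ (hI A hA)) (IH' _ (hI B hB))
    · exact R.empty k X p (not_nonempty_iff.1 hne)
  · obtain ⟨J, hJ, hJJ⟩ := exists_sq_zero X hr
    exact R.sqz k X p J hp hJJ (IH' J hJ)

end Integral

end Groth.Agent.Pic13.H955.Rules
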